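import Cfsg.Agent.Lib.Lie.BoundedPres.SU4.Gen

/-!
# The relations hold for the matrices
-/

set_option autoImplicit false
set_option maxHeartbeats 400000

namespace CfsgLib.Lie.BoundedPres.SUFour

open Matrix CfsgLib.SU CfsgLib.Lie.ShortPres CfsgLib.Lie.SL2Rel
open CfsgLib.Lie.SL2Rel.Fam (upper lower)
open scoped commutatorElement

universe u

variable {F : Type u} [Field F] {q : ℕ} (C : UCtx F q) {δ : F} (hδ : δ ≠ 0) (hδ' : δ + C.bar δ = 0)

theorem conj_eq_of_mat {a b c : ↥(grp C)} (h : a.1.1 * b.1.1 = c.1.1 * a.1.1) : a * b * a⁻¹ = c :=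
  mul_inv_eq_iff_eq_mul.2 (grp_ext h)

/-- the middle of a product of long root elements and Weyl elements -/
theorem mid_mul (a b c d a' b' c' d' x y x' y' : F) :
    (!![x, 0, 0, 0; 0, a, b, 0; 0, c, d, 0; 0, 0, 0, y] : Matrix (Fin 4) (Fin 4) F) *
      !![x', 0, 0, 0; 0, a', b', 0; 0, c', d', 0; 0, 0, 0, y'] =
      !![x * x', 0, 0, 0; 0, a * a' + b * c', a * b' + b * d', 0; 0, c * a' + d * c', c * b' + d * d', 0;
        0, 0, 0, y * y'] := by
  ext i j
  fin_cases i <;> fin_cases j <;> simp [mul_apply, Fin.sum_univ_four]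

theorem mdat_two_inv (v : F) : ((mdat C hδ hδ').two v)⁻¹ = (mdat C hδ hδ').two (-v) := by
  refine inv_eq_of_mul_eq_one_right (grp_ext ?_)
  have e : -v + C.bar (-v) = -(v + C.bar v) := by rw [map_neg, neg_add]
  simp only [grp_mul_val, mdat_two C hδ hδ', grp_one_val, twoMat, mid_mul, e]
  generalize v + C.bar v = s
  ext i j
  fin_cases i <;> fin_cases j <;> simp [neg_div]

set_option maxHeartbeats 1600000 in
/-- the relations in the matrices -/
theorem mdat_rels [Finite F] {ω b₀ : F} (hω0 : ω ≠ 0) (hω : ∀ s : F, s ≠ 0 → ∃ n : ℕ, ω ^ n = s)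
    (hb₀ : b₀ + C.bar b₀ = 1) : Rels C (mdat C hδ hδ') ω δ b₀ := by
  have hbω : C.bar ω ≠ 0 := (map_ne_zero C.bar).2 hω0
  have hb : C.bar δ = -δ := eq_neg_of_add_eq_zero_right hδ'
  have hN : ω * C.bar ω ≠ 0 := mul_ne_zero hω0 hbω
  have htr : ∀ s : F, C.bar s = s → s * b₀ + C.bar (s * b₀) = s := fun s hs => trace_real C hb₀ hs
  have hfN : C.bar (ω * C.bar ω) = ω * C.bar ω := by rw [map_mul, C.bar_bar, mul_comm]
  have tN : ω * C.bar ω * b₀ + C.bar (ω * C.bar ω * b₀) = ω * C.bar ω := htr _ hfN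
  have tI : (ω * C.bar ω)⁻¹ * b₀ + C.bar ((ω * C.bar ω)⁻¹ * b₀) = (ω * C.bar ω)⁻¹ :=
    htr _ (by rw [map_inv₀, hfN])
  refine ⟨hω0, hω, hδ, hδ', hb₀, ?_, ?_, ?_, ?_, fun b => ?_, ?_, ?_, ?_, ?_, ?_, ?_, ?_, ?_⟩
  · refine grp_ext ?_
    simp only [grp_mul_val, mdat_H C hδ hδ' hω0, mdat_K C hδ hδ' hω0]
    ext i j
    fin_cases i <;> fin_cases j <;> simp [torMat, mul_apply, Fin.sum_univ_four, mul_comm]
  · refine conj_eq_of_mat C ?_
    rw [mdat_K C hδ hδ' hω0, mdat_X, mdat_X]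
    ext i j
    fin_cases i <;> fin_cases j <;> simp [torMat, xMat, mul_apply, Fin.sum_univ_four, C.bar_bar] <;> field_simp
  · refine conj_eq_of_mat C ?_
    rw [mdat_K C hδ hδ' hω0, mdat_H C hδ hδ' hω0]
    show (wM C δ hδ hδ').1.1 * _ = _ * (wM C δ hδ hδ').1.1
    rw [wM_val]
    ext i j
    fin_cases i <;> fin_cases j <;> simp [torMat, mul_apply, Fin.sum_univ_four, mul_comm]
  · refine conj_eq_of_mat C ?_
    rw [mdat_K C hδ hδ' hω0, mdat_K C hδ hδ' hbω, mdat_T]
    ext i j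
    fin_cases i <;> fin_cases j <;> simp [torMat, mul_apply, Fin.sum_univ_four, C.bar_bar]
  · refine grp_ext ?_
    simp only [grp_mul_val, mdat_one C hδ hδ', mdat_X]
    ext i j
    fin_cases i <;> fin_cases j <;> simp [oneMat, xMat, mul_apply, Fin.sum_univ_four]
  · refine conj_eq_of_mat C ?_
    rw [mdat_one C hδ hδ']
    show (wM C δ hδ hδ').1.1 * _ = _ * (wM C δ hδ hδ').1.1
    rw [wM_val]
    ext i j
    fin_cases i <;> fin_cases j <;> simp [oneMat, mul_apply, Fin.sum_univ_four]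
  · refine grp_ext ?_
    rw [mdat_one C hδ hδ', grp_one_val]
    ext i j
    fin_cases i <;> fin_cases j <;> simp [oneMat, hδ']
  · have e : (mdat C hδ hδ').H ω * (mdat C hδ hδ').one b₀ * ((mdat C hδ hδ').H ω)⁻¹ =
        (mdat C hδ hδ').one (ω * C.bar ω * b₀) := by
      refine conj_eq_of_mat C ?_
      rw [mdat_one C hδ hδ', mdat_one C hδ hδ', mdat_H C hδ hδ' hω0]
      simp only [oneMat, hb₀, tN]
      ext i j
      fin_cases i <;> fin_cases j <;> simp [torMat, mul_apply, Fin.sum_univ_four] <;> field_simp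
    rw [e]
    refine conj_eq_of_mat C ?_
    rw [mdat_one C hδ hδ', mdat_one C hδ hδ', mdat_K C hδ hδ' hω0]
    simp only [oneMat, hb₀, tN]
    ext i j
    fin_cases i <;> fin_cases j <;> simp [torMat, mul_apply, Fin.sum_univ_four] <;> field_simp
  · refine conj_eq_of_mat C ?_
    rw [mdat_one C hδ hδ', mdat_one C hδ hδ', mdat_H C hδ hδ' hω0]
    simp only [oneMat, hb₀, tN]
    ext i j
    fin_cases i <;> fin_cases j <;> simp [torMat, mul_apply, Fin.sum_univ_four] <;> field_simp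
  · refine conj_eq_of_mat C ?_
    rw [mdat_y C hδ hδ', mdat_y C hδ hδ', mdat_T]
    ext i j
    fin_cases i <;> fin_cases j <;> simp [yMat, mul_apply, Fin.sum_univ_four, neg_div]
  · refine grp_ext ?_
    simp only [grp_mul_val, mdat_T]
    show _ * (wM C δ hδ hδ').1.1 * _ * (wM C δ hδ hδ').1.1 =
      (wM C δ hδ hδ').1.1 * _ * (wM C δ hδ hδ').1.1 * _
    rw [wM_val]
    ext i j
    fin_cases i <;> fin_cases j <;> simp [mul_apply, Fin.sum_univ_four]
  · set W := wM C δ hδ hδ' with hW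
    show W⁻¹ = (mdat C hδ hδ').two b₀ * (W⁻¹ * (mdat C hδ hδ').two b₀ * W) * (mdat C hδ hδ').two b₀
    have i1 := mdat_two_inv C hδ hδ' b₀
    have key : W * ((mdat C hδ hδ').two b₀)⁻¹ = (mdat C hδ hδ').two b₀ * W * (mdat C hδ hδ').two b₀ * W := by
      rw [i1]
      refine grp_ext ?_
      have tn : -b₀ + C.bar (-b₀) = -1 := by rw [map_neg, ← neg_add, hb₀]
      simp only [grp_mul_val, mdat_two C hδ hδ', hW, wM_val, twoMat, hb₀, tn, mid_mul]
      ext i j
      fin_cases i <;> fin_cases j <;> simp [hδ] <;> field_simp <;> ring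
    calc W⁻¹ = (mdat C hδ hδ').two b₀ * W⁻¹ * (W * ((mdat C hδ hδ').two b₀)⁻¹) * W⁻¹ := by group
      _ = _ := by rw [key]; group
  · set W := wM C δ hδ hδ' with hW
    show ((mdat C hδ hδ').H ω)⁻¹ * (mdat C hδ hδ').K ω = (mdat C hδ hδ').two (ω * C.bar ω * b₀) *
      (W⁻¹ * (mdat C hδ hδ').two ((ω * C.bar ω)⁻¹ * b₀) * W) * (mdat C hδ hδ').two (ω * C.bar ω * b₀) * W
    have key : W * ((mdat C hδ hδ').two (ω * C.bar ω * b₀))⁻¹ * ((mdat C hδ hδ').H ω)⁻¹ * (mdat C hδ hδ').K ω =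
        (mdat C hδ hδ').two ((ω * C.bar ω)⁻¹ * b₀) * W * (mdat C hδ hδ').two (ω * C.bar ω * b₀) * W := by
      have i1 := mdat_two_inv C hδ hδ' (ω * C.bar ω * b₀)
      have i2 : ((mdat C hδ hδ').H ω)⁻¹ = (mdat C hδ hδ').H ω⁻¹ := by
        refine inv_eq_of_mul_eq_one_right ?_
        rw [← Dat.H_mul _ hω0 (inv_ne_zero hω0), mul_inv_cancel₀ hω0, Dat.H_one]
      rw [i1, i2]
      refine grp_ext ?_
      have tn : -(ω * C.bar ω * b₀) + C.bar (-(ω * C.bar ω * b₀)) = -(ω * C.bar ω) := by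
        rw [map_neg, ← neg_add, tN]
      simp only [grp_mul_val, mdat_two C hδ hδ', hW, wM_val, mdat_H C hδ hδ' (inv_ne_zero hω0),
        mdat_K C hδ hδ' hω0, twoMat, tI, tn, tN]
      simp only [torMat, mid_mul, map_inv₀, map_one, div_one, one_mul, mul_one, inv_inv, one_div]
      generalize C.bar ω = β at hbω ⊢
      clear i1 i2 tn tI tN hfN htr
      ext i j
      fin_cases i <;> fin_cases j
      case «0».«0» => simp; field_simp
      case «1».«1» => simp [hδ]; field_simp; ring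
      case «1».«2» => simp; field_simp
      case «2».«1» => simp; field_simp
      case «2».«2» => simp; field_simp
      case «3».«3» => simp; field_simp
      all_goals simp
    calc ((mdat C hδ hδ').H ω)⁻¹ * (mdat C hδ hδ').K ω
        = (mdat C hδ hδ').two (ω * C.bar ω * b₀) * W⁻¹ *
          (W * ((mdat C hδ hδ').two (ω * C.bar ω * b₀))⁻¹ * ((mdat C hδ hδ').H ω)⁻¹ * (mdat C hδ hδ').K ω) := by
          group
      _ = _ := by rw [key]; group

end CfsgLib.Lie.BoundedPres.SUFour
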