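import Cfsg.Agent.Lib.Lie.BoundedPres.SysPres
import Cfsg.Agent.Lib.Lie.BoundedPres.SU4.ModelRels
import Cfsg.Agent.Lib.Classical.HermOrder

/-!
# A system of relations for `SU₄`

Four generators and twenty-three relations: those of `SL₂(q²)` on three of them, and fourteen more.
-/

set_option autoImplicit false
set_option maxHeartbeats 400000

namespace CfsgLib.Lie.BoundedPres.SUFour

open Matrix CfsgLib.SU CfsgLib.Lie.ShortPres CfsgLib.Lie.SL2Rel CfsgLib.Lie.BoundedPres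
open CfsgLib.Lie.SL2Rel.Fam (upper lower)
open scoped commutatorElement

/-- pairs of data satisfying the relations satisfy them -/
theorem Rels.pair {F : Type} [Field F] {q : ℕ} {C : UCtx F q} {ω δ b₀ : F} {G₁ G₂ : Type} [Group G₁] [Group G₂]
    {D₁ : Dat F G₁} {D₂ : Dat F G₂} (R₁ : Rels C D₁ ω δ b₀) (R₂ : Rels C D₂ ω δ b₀) {H : Subgroup (G₁ × G₂)}
    (D : Dat F ↥H) (hΦ : ∀ s, (D.Φ s).1 = (D₁.Φ s, D₂.Φ s)) (hw : D.w.1 = (D₁.w, D₂.w)) :
    Rels C D ω δ b₀ := by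
  have hX : ∀ b, (D.X b).1 = (D₁.X b, D₂.X b) := fun b => hΦ _
  have hT : (D.T).1 = (D₁.T, D₂.T) := hΦ _
  have hH : ∀ a, (D.H a).1 = (D₁.H a, D₂.H a) := fun a => hΦ _
  have hK : ∀ a, (D.K a).1 = (D₁.K a, D₂.K a) := fun a => by
    simp [Dat.K, hw, hH]
  have hy : ∀ a, (D.y a).1 = (D₁.y a, D₂.y a) := fun a => by
    simp [Dat.y, hw, hX]
  have hone : ∀ b, (D.one b).1 = (D₁.one b, D₂.one b) := fun b => by
    simp [Dat.one, commutatorElement_def, hy, hX]
  have htwo : ∀ b, (D.two b).1 = (D₁.two b, D₂.two b) := fun b => by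
    simp [Dat.two, hT, hone]
  have cm : ∀ {x y : ↥H}, Commute x.1.1 y.1.1 → Commute x.1.2 y.1.2 → Commute x y := fun {x y} h1 h2 =>
    Subtype.ext (Prod.ext h1.eq h2.eq)
  refine ⟨R₁.hω0, R₁.hω, R₁.hδ, R₁.hδ', R₁.hb₀, cm ?_ ?_, ?_, ?_, ?_, fun b => cm ?_ ?_, ?_, ?_, ?_, ?_, ?_, ?_,
    ?_, ?_⟩
  iterate 2 simp only [hH, hK]; first | exact R₁.e1 | exact R₂.e1
  iterate 3 refine Subtype.ext (Prod.ext ?_ ?_) <;> simp [hH, hK, hX, hT, hw, R₁.e2, R₂.e2, R₁.e4, R₂.e4, R₁.e5, R₂.e5]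
  iterate 2 simp only [hone, hX]; first | exact R₁.q1 b | exact R₂.q1 b
  · refine Subtype.ext (Prod.ext ?_ ?_) <;> simp [hone, hw, R₁.q3, R₂.q3]
  · refine Subtype.ext (Prod.ext ?_ ?_) <;> simp [hone, R₁.q4, R₂.q4]
  · refine Subtype.ext (Prod.ext ?_ ?_) <;> simp [hone, hK, hH, R₁.q5, R₂.q5]
  · refine Subtype.ext (Prod.ext ?_ ?_) <;> simp [hone, hH, R₁.q5', R₂.q5']
  · refine Subtype.ext (Prod.ext ?_ ?_) <;> simp [hy, hT, R₁.q8, R₂.q8]
  · refine Subtype.ext (Prod.ext ?_ ?_) <;> simp [hw, hT, R₁.braid, R₂.braid]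
  · refine Subtype.ext (Prod.ext ?_ ?_) <;> simp [hw, htwo, ← R₁.htu, ← R₂.htu]
  · refine Subtype.ext (Prod.ext ?_ ?_) <;>
      simp only [Subgroup.coe_mul, Subgroup.coe_inv, hw, hH, hK, htwo, Prod.fst_mul, Prod.snd_mul, Prod.fst_inv,
        Prod.snd_inv]
    exacts [R₁.hbase, R₂.hbase]

/-- `SL₂` of a finite field -/
theorem sys_sl2 (F : Type) [Field F] [Fintype F] :
    HasSysJ (Matrix.SpecialLinearGroup (Fin 2) F) 3 9 0 := by
  obtain ⟨p, hp⟩ := CharP.exists F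
  obtain ⟨n, hpp, hn⟩ := FiniteField.card F p
  haveI := Fact.mk hpp
  letI : Algebra (ZMod p) F := ZMod.algebra F p
  by_cases h2 : p = 2
  · subst h2
    obtain ⟨rels, hr, ⟨e⟩⟩ := two_presentation hn (MonoidHom.id (Matrix.SpecialLinearGroup (Fin 2) F))
      Function.bijective_id
    exact (HasSysJ.of_presentation rels e).mono (hr.trans (by omega)) le_rfl
  · obtain ⟨rels, hr, ⟨e⟩⟩ := odd_presentation hn h2 (MonoidHom.id (Matrix.SpecialLinearGroup (Fin 2) F))
      Function.surjective_id 1 (fun _ => map_one _) (fun _ _ φ _ => by rw [MonoidHom.ker_id]; exact bot_le)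
    exact (HasSysJ.of_presentation rels e).mono hr le_rfl

variable {F : Type} [Field F] [Fintype F] {q : ℕ}

/-- the seeds for the first relation -/
theorem q1_of_seeds {G : Type} [Group G] (C : UCtx F q) {D : Dat F G} {ω b₀ : F} (hω0 : ω ≠ 0)
    (hω : ∀ s : F, s ≠ 0 → ∃ n : ℕ, ω ^ n = s) (hnf : C.bar ω ≠ ω) (e1 : Commute (D.H ω) (D.K ω))
    (e2 : D.K ω * D.X 1 * (D.K ω)⁻¹ = D.X (ω / C.bar ω))
    (q5 : D.K ω * D.one b₀ * (D.K ω)⁻¹ = D.H ω * D.one b₀ * (D.H ω)⁻¹)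
    (s1 : Commute (D.one b₀) (D.X 1)) (s2 : Commute (D.one b₀) (D.X ω)) (b : F) :
    Commute (D.one b₀) (D.X b) := by
  set z := D.one b₀
  set T := (D.H ω)⁻¹ * D.K ω with hT
  have hTz : T * z * T⁻¹ = z := by
    rw [hT, show (D.H ω)⁻¹ * D.K ω * z * ((D.H ω)⁻¹ * D.K ω)⁻¹ = (D.H ω)⁻¹ * (D.K ω * z * (D.K ω)⁻¹) * D.H ω by
      group, q5]
    group
  have hN0 : ω * C.bar ω ≠ 0 := mul_ne_zero hω0 ((map_ne_zero C.bar).2 hω0)
  have hi : (D.H ω)⁻¹ = D.H ω⁻¹ := inv_eq_of_mul_eq_one_right (by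
    rw [← D.H_mul hω0 (inv_ne_zero hω0), mul_inv_cancel₀ hω0, D.H_one])
  have hTX : ∀ x, T * D.X x * T⁻¹ = D.X ((ω * C.bar ω)⁻¹ * x) := fun x => by
    rw [hT, show (D.H ω)⁻¹ * D.K ω * D.X x * ((D.H ω)⁻¹ * D.K ω)⁻¹ =
      (D.H ω)⁻¹ * (D.K ω * D.X x * (D.K ω)⁻¹) * ((D.H ω)⁻¹)⁻¹ by group, Dat.K_X_of C hω0 hω e1 e2 hω0, hi,
      D.H_X (inv_ne_zero hω0)]
    congr 1
    field_simp
  let S : AddSubgroup F :=
    { carrier := {x | Commute z (D.X x)}
      zero_mem' := by show Commute z _; rw [D.X_zero]; exact Commute.one_right _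
      add_mem' := fun {x y} hx hy => by show Commute z _; rw [D.X_add]; exact Commute.mul_right hx hy
      neg_mem' := fun {x} hx => by show Commute z _; rw [← D.X_inv]; exact Commute.inv_right hx }
  have step : ∀ x ∈ S, ∀ n : ℕ, ((ω * C.bar ω)⁻¹) ^ n * x ∈ S := by
    intro x hx n
    induction n with
    | zero => simpa using hx
    | succ n ih =>
      show Commute z _
      rw [pow_succ', mul_assoc, ← hTX, ← hTz]
      exact Commute.conj (ih : Commute z _) T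
  have line : ∀ x ∈ S, ∀ r : F, C.bar r = r → r * x ∈ S := by
    intro x hx r hr
    by_cases hr0 : r = 0
    · rw [hr0, zero_mul]; exact S.zero_mem
    obtain ⟨y, hy⟩ := C.exists_norm (c := r⁻¹) (by rw [map_inv₀, hr])
    have hy0 : y ≠ 0 := fun e => by rw [e, zero_mul] at hy; exact inv_ne_zero hr0 hy.symm
    obtain ⟨n, rfl⟩ := hω y hy0
    have e : r = ((ω * C.bar ω)⁻¹) ^ n := by
      rw [inv_pow, mul_pow, ← map_pow, hy, inv_inv]
    rw [e]; exact step x hx n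
  have hd : ω - C.bar ω ≠ 0 := sub_ne_zero.2 (Ne.symm hnf)
  have hd' : C.bar ω - ω ≠ 0 := sub_ne_zero.2 hnf
  set t := (b - C.bar b) / (ω - C.bar ω) with ht
  have htf : C.bar t = t := by
    rw [ht, map_div₀, map_sub, map_sub, C.bar_bar, C.bar_bar, div_eq_div_iff hd' hd]; ring
  have hsf : C.bar (b - t * ω) = b - t * ω := by
    rw [map_sub, map_mul, htf, ht]; field_simp; ring
  have : b ∈ S := by
    have h := S.add_mem (line 1 s1 _ hsf) (line ω s2 _ htf)
    rwa [mul_one, sub_add_cancel] at h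
  exact this

/-- fourteen relations beside those of `SL₂` -/
theorem sys_grp_of (C : UCtx F q) {r : ℕ} (hr₀ : HasSysJ (Matrix.SpecialLinearGroup (Fin 2) F) 3 r 0) :
    HasSysJ ↥(grp C) 4 (r + 14) 0 := by
  classical
  obtain ⟨ω, hω0, -, hω⟩ := exists_primitive (F := F)
  obtain ⟨δ, hδ, hδ'⟩ := C.exists_trace_zero
  obtain ⟨b₀, hb₀⟩ := C.exists_trace (c := (1 : F)) (map_one _)
  have hnf : C.bar ω ≠ ω := fun e => by
    obtain ⟨y, hy⟩ := C.exists_not_fixed
    by_cases hy0 : y = 0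
    · exact hy (by rw [hy0, map_zero])
    · obtain ⟨n, rfl⟩ := hω y hy0
      exact hy (by rw [map_pow, e])
  obtain ⟨ι0, i0, g0, R0, V0, J0, hk, hr, hval, hcov, hhom, hJ, hV⟩ := hr₀
  choose cw hcwV hcw using hcov
  let ι := ι0 ⊕ Unit
  let inc : FreeGroup ι0 →* FreeGroup ι := FreeGroup.map Sum.inl
  let v : Matrix.SpecialLinearGroup (Fin 2) F → FreeGroup ι := fun s => inc (cw s)
  let W : FreeGroup ι := FreeGroup.of (Sum.inr ())
  let eX : F → FreeGroup ι := fun b => v (upper b)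
  let eT : FreeGroup ι := v (wm 1)
  let eH : F → FreeGroup ι := fun a => v (hm a)
  let eK : F → FreeGroup ι := fun a => W * eH a * W⁻¹
  let ey : F → FreeGroup ι := fun c => W * eX c * W⁻¹
  let eone : F → FreeGroup ι := fun b => ⁅eX b, ey 1⁆
  let etwo : F → FreeGroup ι := fun b => eT * eone b * eT⁻¹
  let N := ω * C.bar ω
  let new : List (FreeGroup ι) :=
    [⁅eH ω, eK ω⁆,
     eK ω * eX 1 * (eK ω)⁻¹ * (eX (ω / C.bar ω))⁻¹,
     W * eK ω * W⁻¹ * (eH ω)⁻¹,
     eT * eK ω * eT⁻¹ * (eK (C.bar ω))⁻¹,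
     ⁅eone b₀, eX 1⁆,
     ⁅eone b₀, eX ω⁆,
     W * eone b₀ * W⁻¹ * (eone b₀)⁻¹,
     eone δ,
     eK ω * eone b₀ * (eK ω)⁻¹ * (eH ω * eone b₀ * (eH ω)⁻¹)⁻¹,
     eH ω * eone b₀ * (eH ω)⁻¹ * (eone (N * b₀))⁻¹,
     eT * ey 1 * eT⁻¹ * (ey (-1))⁻¹,
     eT * W * eT * W * (W * eT * W * eT)⁻¹,
     W⁻¹ * (etwo b₀ * (W⁻¹ * etwo b₀ * W) * etwo b₀)⁻¹,
     (eH ω)⁻¹ * eK ω * (etwo (N * b₀) * (W⁻¹ * etwo (N⁻¹ * b₀) * W) * etwo (N * b₀) * W)⁻¹]
  let R : List (FreeGroup ι) := R0.map inc ++ new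
  have hinc : ∀ {K : Type} [Group K] (g : ι → K) (w : FreeGroup ι0),
      FreeGroup.lift g (inc w) = FreeGroup.lift (fun x => g (Sum.inl x)) w := fun g w => lift_map _ _ w
  -- the words evaluate to the named elements
  have ev : ∀ {K : Type} [Group K] (g : ι → K) (D : Dat F K), (∀ s, FreeGroup.lift g (v s) = D.Φ s) →
      g (Sum.inr ()) = D.w →
      FreeGroup.lift g W = D.w ∧ FreeGroup.lift g eT = D.T ∧ (∀ b, FreeGroup.lift g (eX b) = D.X b) ∧
      (∀ a, FreeGroup.lift g (eH a) = D.H a) ∧ (∀ a, FreeGroup.lift g (eK a) = D.K a) ∧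
      (∀ b, FreeGroup.lift g (ey b) = D.y b) ∧ (∀ b, FreeGroup.lift g (eone b) = D.one b) ∧
      ∀ b, FreeGroup.lift g (etwo b) = D.two b := by
    intro K _ g D hv hw
    have hW : FreeGroup.lift g W = D.w := by rw [← hw]; exact FreeGroup.lift_apply_of
    have hX : ∀ b, FreeGroup.lift g (eX b) = D.X b := fun b => hv _
    have hT : FreeGroup.lift g eT = D.T := hv _
    have hH : ∀ a, FreeGroup.lift g (eH a) = D.H a := fun a => hv _
    have hy : ∀ b, FreeGroup.lift g (ey b) = D.y b := fun b => by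
      simp only [ey, map_mul, map_inv, hW, hX]; rfl
    have hone : ∀ b, FreeGroup.lift g (eone b) = D.one b := fun b => by
      simp only [eone, map_commutatorElement, hX, hy]; rfl
    exact ⟨hW, hT, hX, hH, fun a => by simp only [eK, map_mul, map_inv, hW, hH]; rfl, hy, hone,
      fun b => by simp only [etwo, map_mul, map_inv, hT, hone]; rfl⟩
  let gM : ι → ↥(grp C) := Sum.elim (fun x => phiM C (g0 x)) fun _ => wM C δ hδ hδ'
  have hvM : ∀ s, FreeGroup.lift gM (v s) = phiM C s := fun s => by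
    rw [hinc gM (cw s)]
    exact (lift_comp_hom (phiM C) g0 (cw s)).trans (by rw [hcw])
  have RM := mdat_rels C hδ hδ' hω0 hω hb₀
  let V : Subgroup (FreeGroup ι) := V0.map inc ⊔ Subgroup.zpowers W
  have hvV : ∀ s, v s ∈ V := fun s => Subgroup.mem_sup_left ⟨cw s, hcwV s, rfl⟩
  have hWV : W ∈ V := Subgroup.mem_sup_right (Subgroup.mem_zpowers W)
  refine ⟨ι, inferInstance, gM, R, V, J0.map ⟨Sum.inl, Sum.inl_injective⟩, by simp [ι, hk],
    by simp [R, new]; omega, ?_, ?_, ?_, by simpa using hJ, ?_⟩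
  · obtain ⟨hW, hT, hX, hH, hK, hy, hone, htwo⟩ := ev gM (mdat C hδ hδ') hvM rfl
    intro w hw
    rcases List.mem_append.1 hw with hw | hw
    · obtain ⟨w0, hw0, rfl⟩ := List.mem_map.1 hw
      rw [hinc gM w0]
      exact (lift_comp_hom (phiM C) g0 w0).trans (by rw [hval w0 hw0, map_one])
    · simp only [new, List.mem_cons, List.not_mem_nil, or_false] at hw
      rcases hw with rfl | rfl | rfl | rfl | rfl | rfl | rfl | rfl | rfl | rfl | rfl | rfl | rfl | rfl <;>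
        simp only [map_mul, map_inv, map_commutatorElement, hW, hT, hX, hH, hK, hy, hone, htwo, N]
      · exact commutatorElement_eq_one_iff_commute.2 RM.e1
      · exact mul_inv_eq_one.2 RM.e2
      · exact mul_inv_eq_one.2 RM.e4
      · exact mul_inv_eq_one.2 RM.e5
      · exact commutatorElement_eq_one_iff_commute.2 (RM.q1 1)
      · exact commutatorElement_eq_one_iff_commute.2 (RM.q1 ω)
      · exact mul_inv_eq_one.2 RM.q3
      · exact RM.q4
      · exact mul_inv_eq_one.2 RM.q5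
      · exact mul_inv_eq_one.2 RM.q5'
      · exact mul_inv_eq_one.2 RM.q8
      · exact mul_inv_eq_one.2 RM.braid
      · exact mul_inv_eq_one.2 RM.htu
      · exact mul_inv_eq_one.2 RM.hbase
  · have hle : genH C hδ hδ' ≤ V.map (FreeGroup.lift gM) := by
      refine (Subgroup.closure_le _).2 ?_
      rintro x (⟨s, rfl⟩ | hx)
      · exact ⟨v s, hvV s, hvM s⟩
      · rw [Set.mem_singleton_iff] at hx
        exact ⟨W, hWV, by rw [hx]; exact FreeGroup.lift_apply_of⟩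
    intro s
    exact hle ((genH_top C hδ hδ' hb₀).symm ▸ Subgroup.mem_top s)
  · intro G _ g' hg'
    have hR : ∀ w ∈ R0, FreeGroup.lift (fun x => g' (Sum.inl x)) w = 1 := fun w hw => by
      rw [← hinc g' w]; exact hg' _ (List.mem_append_left _ (List.mem_map_of_mem hw))
    obtain ⟨φ, hφ⟩ := hhom G (fun x => g' (Sum.inl x)) hR
    have hvG : ∀ s, FreeGroup.lift g' (v s) = φ s := fun s => by
      rw [hinc g' (cw s), ← hφ _ (hcwV s), hcw]
    obtain ⟨hW, hT, hX, hH, hK, hy, hone, htwo⟩ := ev g' ⟨φ, g' (Sum.inr ())⟩ hvG rfl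
    have rel := fun w (hw : w ∈ new) => hg' w (List.mem_append_right _ hw)
    simp only [new, List.forall_mem_cons, map_mul, map_inv, map_commutatorElement, hW, hT, hX, hH, hK, hy, hone,
      htwo, N] at rel
    obtain ⟨a1, a2, a4, a5, s1, s2, a3, a6, a7, a8, a9, a10, a11, a12, -⟩ := rel
    have RG : Rels C (⟨φ, g' (Sum.inr ())⟩ : Dat F G) ω δ b₀ :=
      ⟨hω0, hω, hδ, hδ', hb₀, commutatorElement_eq_one_iff_commute.1 a1, mul_inv_eq_one.1 a2,
        mul_inv_eq_one.1 a4, mul_inv_eq_one.1 a5,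
        q1_of_seeds C hω0 hω hnf (commutatorElement_eq_one_iff_commute.1 a1) (mul_inv_eq_one.1 a2)
          (mul_inv_eq_one.1 a7) (commutatorElement_eq_one_iff_commute.1 s1)
          (commutatorElement_eq_one_iff_commute.1 s2),
        mul_inv_eq_one.1 a3, a6, mul_inv_eq_one.1 a7, mul_inv_eq_one.1 a8, mul_inv_eq_one.1 a9,
        mul_inv_eq_one.1 a10, mul_inv_eq_one.1 a11, mul_inv_eq_one.1 a12⟩
    -- the subgroup of pairs
    let D2 : Dat F (↥(grp C) × G) := ⟨(phiM C).prod φ, (wM C δ hδ hδ', g' (Sum.inr ()))⟩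
    let H : Subgroup (↥(grp C) × G) := Subgroup.closure (Set.range D2.Φ ∪ {D2.w})
    let D3 : Dat F ↥H := ⟨D2.Φ.codRestrict H fun s => Subgroup.subset_closure (Or.inl ⟨s, rfl⟩),
      ⟨D2.w, Subgroup.subset_closure (Or.inr rfl)⟩⟩
    have R3 : Rels C D3 ω δ b₀ := Rels.pair RM RG D3 (fun _ => rfl) rfl
    have hgen : Subgroup.closure (Set.range D3.Φ ∪ {D3.w}) = ⊤ := by
      refine eq_top_iff.2 fun x _ => ?_
      have : Subgroup.closure (Set.range D3.Φ ∪ {D3.w}) =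
          Subgroup.closure (((↑) : ↥H → ↥(grp C) × G) ⁻¹' (Set.range D2.Φ ∪ {D2.w})) := by
        congr 1
        ext y
        simp only [Set.mem_union, Set.mem_range, Set.mem_singleton_iff, Set.mem_preimage]
        refine or_congr ⟨fun ⟨s, hs⟩ => ⟨s, congrArg Subtype.val hs⟩, fun ⟨s, hs⟩ => ⟨s, Subtype.ext hs⟩⟩
          ⟨fun h => congrArg Subtype.val h, fun h => Subtype.ext h⟩
      rw [this, Subgroup.closure_closure_coe_preimage]
      trivial
    have hinj := R3.injective (hδ := hδ) (hδ' := hδ') hgen ((MonoidHom.fst _ _).comp H.subtype) (fun _ => rfl) rfl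
    refine exists_hom_of_cover gM g' V ?_ fun w hw hw1 => ?_
    · have hle : genH C hδ hδ' ≤ V.map (FreeGroup.lift gM) := by
        refine (Subgroup.closure_le _).2 ?_
        rintro x (⟨s, rfl⟩ | hx)
        · exact ⟨v s, hvV s, hvM s⟩
        · rw [Set.mem_singleton_iff] at hx
          exact ⟨W, hWV, by rw [hx]; exact FreeGroup.lift_apply_of⟩
      intro s
      exact hle ((genH_top C hδ hδ' hb₀).symm ▸ Subgroup.mem_top s)
    · have hmem : (FreeGroup.lift gM w, FreeGroup.lift g' w) ∈ H := by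
        have hle : V.map ((FreeGroup.lift gM).prod (FreeGroup.lift g')) ≤ H := by
          rw [Subgroup.map_le_iff_le_comap]
          refine sup_le ?_ (Subgroup.zpowers_le.2 (Subgroup.subset_closure (Or.inr (Prod.ext ?_ ?_))))
          · rintro _ ⟨u, hu, rfl⟩
            refine Subgroup.subset_closure (Or.inl ⟨FreeGroup.lift g0 u, Prod.ext ?_ ?_⟩)
            · show phiM C _ = FreeGroup.lift gM (inc u)
              rw [hinc gM u]; exact (lift_comp_hom (phiM C) g0 u).symm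
            · show φ _ = FreeGroup.lift g' (inc u)
              rw [hinc g' u]; exact hφ u hu
          · exact FreeGroup.lift_apply_of
          · exact FreeGroup.lift_apply_of
        exact hle ⟨w, hw, rfl⟩
      have := @hinj ⟨_, hmem⟩ 1 (hw1.trans (map_one _).symm)
      exact congrArg Prod.snd (congrArg Subtype.val this)
  · rintro (x | x) hx
    · refine Subgroup.mem_sup_left ⟨FreeGroup.of x, hV x fun hJ => hx ?_, by simp [inc]⟩
      exact Finset.mem_map.2 ⟨x, hJ, rfl⟩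
    · exact hWV

/-- the system of relations -/
theorem sys_grp (C : UCtx F q) : HasSysJ ↥(grp C) 4 23 0 := sys_grp_of C (sys_sl2 F)

/-- fewer relations in characteristic two -/
theorem sys_su_four_two (hF : Fintype.card F = q ^ 2) [CharP F 2] : HasSysJ ↥(Cfsg.SU 4 F q) 4 19 0 := by
  obtain ⟨n, -, hn⟩ := FiniteField.card F 2
  haveI : Fact (Nat.Prime 2) := ⟨Nat.prime_two⟩
  letI : Algebra (ZMod 2) F := ZMod.algebra F 2
  obtain ⟨rels, hr, ⟨e⟩⟩ := two_presentation hn (MonoidHom.id (Matrix.SpecialLinearGroup (Fin 2) F))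
    Function.bijective_id
  obtain ⟨C⟩ := CfsgLib.Classical.uctx_exists hF
  obtain ⟨e'⟩ := exists_equiv C
  exact ((sys_grp_of C ((HasSysJ.of_presentation rels e).mono hr le_rfl)).mono le_rfl le_rfl).of_equiv e'

/-- the system of relations of the standard group -/
theorem sys_su_four (hF : Fintype.card F = q ^ 2) : HasSysJ ↥(Cfsg.SU 4 F q) 4 23 0 := by
  obtain ⟨C⟩ := CfsgLib.Classical.uctx_exists hF
  obtain ⟨e⟩ := exists_equiv C
  exact (sys_grp C).of_equiv e

end CfsgLib.Lie.BoundedPres.SUFour
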