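import Cfsg.Agent.Lib.Lie.BoundedPres.SU4.Unip
import Cfsg.Agent.Lib.Classical.SLBasic

/-!
# The eight cells
-/

set_option autoImplicit false
set_option maxHeartbeats 400000

namespace CfsgLib.Lie.BoundedPres.SUFour

open Matrix CfsgLib.SU CfsgLib.Lie.ShortPres CfsgLib.Lie.SL2Rel
open CfsgLib.Lie.SL2Rel.Fam (upper lower)

universe u v

variable {F : Type u} [Field F] {q : ℕ} {G : Type v} [Group G]

/-- representatives of the Weyl group -/
def Dat.reps (D : Dat F G) : Set G :=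
  {n | n = 1 ∨ n = D.T ∨ n = D.w ∨ n = D.T * D.w ∨ n = D.w * D.T ∨ n = D.T * D.w * D.T ∨
    n = D.w * D.T * D.w ∨ n = D.T * D.w * D.T * D.w}

/-- the union of the cells -/
def Dat.cells (D : Dat F G) : Set G :=
  {g | ∃ a ∈ D.U, ∃ τ ∈ D.Tor, ∃ n ∈ D.reps, ∃ b ∈ D.U, g = a * τ * n * b}

namespace Rels

variable [Finite F] {C : UCtx F q} {D : Dat F G} {ω δ b₀ : F} (R : Rels C D ω δ b₀)
include R

theorem cells_U {g a : G} (hg : g ∈ D.cells) (ha : a ∈ D.U) : a * g ∈ D.cells := by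
  obtain ⟨x, hx, τ, hτ, n, hn, b, hb, rfl⟩ := hg
  exact ⟨a * x, mul_mem ha hx, τ, hτ, n, hn, b, hb, by group⟩

theorem cells_U_right {g a : G} (hg : g ∈ D.cells) (ha : a ∈ D.U) : g * a ∈ D.cells := by
  obtain ⟨x, hx, τ, hτ, n, hn, b, hb, rfl⟩ := hg
  exact ⟨x, hx, τ, hτ, n, hn, b * a, mul_mem hb ha, by group⟩

theorem cells_Tor {g τ : G} (hg : g ∈ D.cells) (hτ : τ ∈ D.Tor) : τ * g ∈ D.cells := by
  obtain ⟨x, hx, σ, hσ, n, hn, b, hb, rfl⟩ := hg
  exact ⟨_, R.tor_U hτ hx, τ * σ, mul_mem hτ hσ, n, hn, b, hb, by group⟩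

omit R [Finite F] in
theorem cells_rep {n b : G} (hn : n ∈ D.reps) (hb : b ∈ D.U) : n * b ∈ D.cells :=
  ⟨1, one_mem _, 1, one_mem _, n, hn, b, hb, by group⟩

theorem T_y_inv (c : F) : D.T⁻¹ * D.y c * D.T = D.y (-C.bar c) := by
  conv_lhs => rw [show D.y c = D.T * D.y (-C.bar c) * D.T⁻¹ by rw [R.T_y, map_neg, C.bar_bar, neg_neg]]
  group

theorem w_inv_one (b : F) : D.w⁻¹ * D.one b * D.w = D.one b := by
  conv_lhs => rw [← R.w_one b]
  group

theorem T_inv_one (b : F) : D.T⁻¹ * D.one b * D.T = D.two b := by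
  rw [← R.T_two b]; group

/-- the short Weyl element between good representatives -/
theorem good_T {n : G} (hn : n = 1 ∨ n = D.w ∨ n = D.w * D.T ∨ n = D.w * D.T * D.w) (b : F) :
    n⁻¹ * D.X b * n ∈ D.U ∧ n ∈ D.reps ∧ D.T * n ∈ D.reps := by
  obtain ⟨c, hc⟩ := (R.w_inv_X b).1
  rcases hn with rfl | rfl | rfl | rfl
  · exact ⟨by simpa using D.X_U b, by simp [Dat.reps], by simp [Dat.reps]⟩
  · exact ⟨hc ▸ D.y_U c, by simp [Dat.reps], by simp [Dat.reps]⟩
  · refine ⟨?_, by simp [Dat.reps], by simp [Dat.reps, mul_assoc]⟩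
    rw [show (D.w * D.T)⁻¹ * D.X b * (D.w * D.T) = D.T⁻¹ * (D.w⁻¹ * D.X b * D.w) * D.T by group, hc, R.T_y_inv]
    exact D.y_U _
  · refine ⟨?_, by simp [Dat.reps], by simp [Dat.reps, mul_assoc]⟩
    rw [show (D.w * D.T * D.w)⁻¹ * D.X b * (D.w * D.T * D.w) =
      D.w⁻¹ * (D.T⁻¹ * (D.w⁻¹ * D.X b * D.w) * D.T) * D.w by group, hc, R.T_y_inv, Dat.y]
    rw [show D.w⁻¹ * (D.w * D.X (-C.bar c) * D.w⁻¹) * D.w = D.X (-C.bar c) by group]
    exact D.X_U _

/-- the long Weyl element between good representatives -/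
theorem good_w {n : G} (hn : n = 1 ∨ n = D.T ∨ n = D.T * D.w ∨ n = D.T * D.w * D.T) (b : F) :
    n⁻¹ * D.two b * n ∈ D.U ∧ n ∈ D.reps ∧ D.w * n ∈ D.reps := by
  have hT : D.T⁻¹ * D.two b * D.T = D.one b := by rw [Dat.two]; group
  rcases hn with rfl | rfl | rfl | rfl
  · exact ⟨by simpa using D.two_U b, by simp [Dat.reps], by simp [Dat.reps]⟩
  · exact ⟨hT ▸ D.one_U b, by simp [Dat.reps], by simp [Dat.reps]⟩
  · refine ⟨?_, by simp [Dat.reps], by simp [Dat.reps, mul_assoc]⟩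
    rw [show (D.T * D.w)⁻¹ * D.two b * (D.T * D.w) = D.w⁻¹ * (D.T⁻¹ * D.two b * D.T) * D.w by group, hT,
      R.w_inv_one]
    exact D.one_U _
  · refine ⟨?_, by simp [Dat.reps], ?_⟩
    · rw [show (D.T * D.w * D.T)⁻¹ * D.two b * (D.T * D.w * D.T) =
        D.T⁻¹ * (D.w⁻¹ * (D.T⁻¹ * D.two b * D.T) * D.w) * D.T by group, hT, R.w_inv_one, R.T_inv_one]
      exact D.two_U _
    · rw [show D.w * (D.T * D.w * D.T) = D.w * D.T * D.w * D.T by group, ← R.braid]
      simp [Dat.reps]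

theorem T_X_T (b : F) : ∃ τ ∈ D.Tor, (b = 0 ∧ D.T * D.X b * D.T = τ) ∨
    ∃ p, D.T * D.X b * D.T = D.X p * τ * D.T * D.X p := by
  by_cases hb : b = 0
  · exact ⟨_, D.H_Tor (neg_ne_zero.2 one_ne_zero), Or.inl ⟨hb, by rw [hb, D.X_zero, mul_one, D.T_sq]⟩⟩
  set p := -b⁻¹ with hp
  have hp0 : p ≠ 0 := neg_ne_zero.2 (inv_ne_zero hb)
  refine ⟨D.H (-p) * D.H (-1), mul_mem (D.H_Tor (neg_ne_zero.2 hp0)) (D.H_Tor (neg_ne_zero.2 one_ne_zero)),
    Or.inr ⟨p, ?_⟩⟩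
  have e1 : D.T * D.X b * D.T⁻¹ = D.X p * (D.H (-p) * D.T) * D.X p := by
    rw [D.T_X, show -b = p⁻¹ by rw [hp]; field_simp, ← upper_wm_upper hp0]
    simp only [map_mul]
    rfl
  have h1 : D.H (-1 : F) * D.X p * (D.H (-1 : F))⁻¹ = D.X p := by
    rw [D.H_X (neg_ne_zero.2 one_ne_zero)]; norm_num
  have h2 : D.T * D.H (-1 : F) * D.T⁻¹ = D.H (-1) := by rw [D.T_H (neg_ne_zero.2 one_ne_zero)]; norm_num
  calc D.T * D.X b * D.T = (D.T * D.X b * D.T⁻¹) * (D.T * D.T) := by group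
    _ = D.X p * (D.H (-p) * D.T) * D.X p * D.H (-1) := by rw [e1, D.T_sq]
    _ = D.X p * (D.H (-p) * D.T) * (D.X p * D.H (-1) * (D.X p)⁻¹) * D.X p := by group
    _ = D.X p * (D.H (-p) * D.T) * D.H (-1) * D.X p := by
        rw [show D.X p * D.H (-1 : F) * (D.X p)⁻¹ = D.H (-1) by
          rw [mul_inv_eq_iff_eq_mul]; exact (mul_inv_eq_iff_eq_mul.1 h1).symm]
    _ = _ := by
        rw [mul_assoc (D.X p) (D.H (-p) * D.T) _, mul_assoc (D.H (-p)) D.T,
          show D.T * D.H (-1 : F) = D.H (-1) * D.T from mul_inv_eq_iff_eq_mul.1 h2]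
        group

theorem w_two_w (v : F) : ∃ τ ∈ D.Tor, D.w * D.two v * D.w = τ ∨
    ∃ p p', D.w * D.two v * D.w = D.two p * τ * D.w * D.two p' := by
  obtain ⟨ψ, hψx, hψw, hψh, -⟩ := R.exists_psi
  let r : ↥(CfsgLib.Descent.fixedField C.bar) :=
    ⟨v + C.bar v, show C.bar (v + C.bar v) = v + C.bar v by rw [map_add, C.bar_bar, add_comm]⟩
  have hv : D.two v = ψ (upper r) := by
    rw [hψx]
    refine R.two_congr ?_
    show v + C.bar v = (v + C.bar v) * b₀ + C.bar ((v + C.bar v) * b₀)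
    rw [map_mul, show C.bar (v + C.bar v) = v + C.bar v from r.2]
    linear_combination -(v + C.bar v) * R.hb₀
  by_cases hr : r = 0
  · refine ⟨_, R.w_sq, Or.inl ?_⟩
    rw [hv, hr, upper_zero, map_one, mul_one]
  set p := -r⁻¹ with hp
  have hp0 : p ≠ 0 := neg_ne_zero.2 (inv_ne_zero hr)
  have e1 : D.w⁻¹ * D.two v * D.w = ψ (upper p) * ψ (hm (-p)) * D.w⁻¹ * ψ (upper p) := by
    rw [hv, ← hψw, show D.w = (ψ (wm 1))⁻¹ by rw [hψw, inv_inv], ← map_inv, ← map_mul, ← map_mul, wm_upper,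
      show -r = p⁻¹ by rw [hp]; field_simp, ← upper_wm_upper hp0]
    simp only [map_mul, map_inv, inv_inv]
    group
  have hτ : ψ (hm (-p)) * (D.w * D.w)⁻¹ ∈ D.Tor := mul_mem (hψh _ (neg_ne_zero.2 hp0)) (inv_mem R.w_sq)
  obtain ⟨k, _, _, k', -, hk', h⟩ := R.tor_act R.w_sq
  refine ⟨_, mul_mem R.w_sq hτ, Or.inr ⟨k' * ((p : F) * b₀), (p : F) * b₀, ?_⟩⟩
  calc D.w * D.two v * D.w = (D.w * D.w) * (D.w⁻¹ * D.two v * D.w) := by group
    _ = ((D.w * D.w) * ψ (upper p) * (D.w * D.w)⁻¹) * ((D.w * D.w) * (ψ (hm (-p)) * (D.w * D.w)⁻¹)) * D.w *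
          ψ (upper p) := by rw [e1]; group
    _ = _ := by rw [hψx, (h _).2.2.2]

theorem cells_X_T {b : F} {n : G} (hn : n ∈ D.reps) : D.T * D.X b * n ∈ D.cells := by
  have hgood : ∀ n, (n = 1 ∨ n = D.w ∨ n = D.w * D.T ∨ n = D.w * D.T * D.w) →
      D.T * D.X b * n ∈ D.cells ∧ D.T * D.X b * (D.T * n) ∈ D.cells := by
    intro n hn
    obtain ⟨-, hn1, hn2⟩ := R.good_T hn b
    constructor
    · rw [show D.T * D.X b * n = (D.T * n) * (n⁻¹ * D.X b * n) by group]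
      exact cells_rep hn2 (R.good_T hn b).1
    · rw [← mul_assoc]
      obtain ⟨τ, hτ, ⟨-, e⟩ | ⟨p, e⟩⟩ := R.T_X_T b
      · rw [e]
        exact R.cells_Tor (by simpa using cells_rep hn1 (one_mem D.U)) hτ
      · rw [e, show D.X p * τ * D.T * D.X p * n = D.X p * (τ * ((D.T * n) * (n⁻¹ * D.X p * n))) by group]
        exact R.cells_U (R.cells_Tor (cells_rep hn2 (R.good_T hn p).1) hτ) (D.X_U p)
  rcases hn with rfl | rfl | rfl | rfl | rfl | rfl | rfl | rfl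
  · exact (hgood 1 (Or.inl rfl)).1
  · simpa using (hgood 1 (Or.inl rfl)).2
  · exact (hgood D.w (Or.inr (Or.inl rfl))).1
  · exact (hgood D.w (Or.inr (Or.inl rfl))).2
  · exact (hgood (D.w * D.T) (Or.inr (Or.inr (Or.inl rfl)))).1
  · have := (hgood (D.w * D.T) (Or.inr (Or.inr (Or.inl rfl)))).2
    rwa [← mul_assoc D.T] at this
  · exact (hgood (D.w * D.T * D.w) (Or.inr (Or.inr (Or.inr rfl)))).1
  · have := (hgood (D.w * D.T * D.w) (Or.inr (Or.inr (Or.inr rfl)))).2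
    rwa [← mul_assoc D.T, ← mul_assoc D.T] at this

theorem cells_two_w {v : F} {n : G} (hn : n ∈ D.reps) : D.w * D.two v * n ∈ D.cells := by
  have hgood : ∀ n, (n = 1 ∨ n = D.T ∨ n = D.T * D.w ∨ n = D.T * D.w * D.T) →
      D.w * D.two v * n ∈ D.cells ∧ D.w * D.two v * (D.w * n) ∈ D.cells := by
    intro n hn
    obtain ⟨-, hn1, hn2⟩ := R.good_w hn v
    constructor
    · rw [show D.w * D.two v * n = (D.w * n) * (n⁻¹ * D.two v * n) by group]
      exact cells_rep hn2 (R.good_w hn v).1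
    · rw [← mul_assoc]
      obtain ⟨τ, hτ, e | ⟨p, p', e⟩⟩ := R.w_two_w v
      · rw [e]
        exact R.cells_Tor (by simpa using cells_rep hn1 (one_mem D.U)) hτ
      · rw [e, show D.two p * τ * D.w * D.two p' * n = D.two p * (τ * ((D.w * n) * (n⁻¹ * D.two p' * n))) by group]
        exact R.cells_U (R.cells_Tor (cells_rep hn2 (R.good_w hn p').1) hτ) (D.two_U p)
  rcases hn with rfl | rfl | rfl | rfl | rfl | rfl | rfl | rfl
  · exact (hgood 1 (Or.inl rfl)).1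
  · exact (hgood D.T (Or.inr (Or.inl rfl))).1
  · simpa using (hgood 1 (Or.inl rfl)).2
  · exact (hgood (D.T * D.w) (Or.inr (Or.inr (Or.inl rfl)))).1
  · exact (hgood D.T (Or.inr (Or.inl rfl))).2
  · exact (hgood (D.T * D.w * D.T) (Or.inr (Or.inr (Or.inr rfl)))).1
  · have := (hgood (D.T * D.w) (Or.inr (Or.inr (Or.inl rfl)))).2
    rwa [← mul_assoc D.w] at this
  · have := (hgood (D.T * D.w * D.T) (Or.inr (Or.inr (Or.inr rfl)))).2
    rwa [← mul_assoc D.w, ← mul_assoc D.w, ← R.braid] at this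

theorem cells_T {g : G} (hg : g ∈ D.cells) : D.T * g ∈ D.cells := by
  obtain ⟨x, hx, τ, hτ, n, hn, b', hb', rfl⟩ := hg
  obtain ⟨v, c, r, b, rfl⟩ := R.U_form hx
  obtain ⟨l, _, _, _, -, -, h⟩ := R.tor_act (inv_mem hτ)
  have hU : D.T * (D.two v * D.y c * D.one r) * D.T⁻¹ ∈ D.U := by
    rw [show D.T * (D.two v * D.y c * D.one r) * D.T⁻¹ =
      (D.T * D.two v * D.T⁻¹) * (D.T * D.y c * D.T⁻¹) * (D.T * D.one r * D.T⁻¹) by group, R.T_two, R.T_y]
    exact mul_mem (mul_mem (D.one_U _) (D.y_U _)) (D.two_U _)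
  rw [show D.T * (D.two v * D.y c * D.one r * D.X b * τ * n * b') =
    (D.T * (D.two v * D.y c * D.one r) * D.T⁻¹) *
      ((D.T * τ * D.T⁻¹) * (D.T * (τ⁻¹ * D.X b * τ) * n)) * b' by group]
  refine R.cells_U_right (R.cells_U (R.cells_Tor ?_ (R.w_T hτ).2) hU) hb'
  have e := (h b).1
  rw [inv_inv] at e
  rw [e]
  exact R.cells_X_T hn

theorem cells_w {g : G} (hg : g ∈ D.cells) : D.w * g ∈ D.cells := by
  obtain ⟨x, hx, τ, hτ, n, hn, b', hb', rfl⟩ := hg
  obtain ⟨v, c, r, b, rfl⟩ := R.U_form hx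
  obtain ⟨_, _, _, k', -, -, h⟩ := R.tor_act (inv_mem hτ)
  -- move the long root element to the right
  obtain ⟨a, ha, e⟩ : ∃ a, D.w * a * D.w⁻¹ ∈ D.U ∧ D.two v * D.y c * D.one r * D.X b = a * D.two v := by
    have e1 : D.two v * D.X b = D.X b * D.two v * D.y ((v + C.bar v) * -b) * D.one (-b * C.bar (-b) * v) := by
      have h := R.X_two (-b) v
      rw [← D.X_inv, inv_inv] at h
      calc D.two v * D.X b = D.X b * ((D.X b)⁻¹ * D.two v * D.X b) := by group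
        _ = _ := by rw [h]; group
    set c' := (v + C.bar v) * -b
    set r' := -b * C.bar (-b) * v
    refine ⟨D.y c * D.one r * D.X b * (D.y c' * D.one r'), ?_, ?_⟩
    · obtain ⟨d, hd⟩ := (R.w_inv_X c).2
      obtain ⟨d', hd'⟩ := (R.w_inv_X c').2
      rw [show D.w * (D.y c * D.one r * D.X b * (D.y c' * D.one r')) * D.w⁻¹ =
        (D.w * D.y c * D.w⁻¹) * (D.w * D.one r * D.w⁻¹) * D.y b * ((D.w * D.y c' * D.w⁻¹) *
          (D.w * D.one r' * D.w⁻¹)) by rw [Dat.y, Dat.y, Dat.y]; group, hd, hd', R.w_one, R.w_one]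
      exact mul_mem (mul_mem (mul_mem (D.X_U _) (D.one_U _)) (D.y_U _)) (mul_mem (D.X_U _) (D.one_U _))
    · have h1 : Commute (D.two v) (D.y c * D.one r) := (R.two_comm_y v c).mul_right (R.one_comm_two r v).symm
      have h2 : Commute (D.two v) (D.y c' * D.one r') :=
        (R.two_comm_y v c').mul_right (R.one_comm_two r' v).symm
      calc D.two v * D.y c * D.one r * D.X b = (D.y c * D.one r) * (D.two v * D.X b) := by
            rw [← mul_assoc (D.y c * D.one r), ← h1.eq]; group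
        _ = D.y c * D.one r * D.X b * (D.two v * (D.y c' * D.one r')) := by rw [e1]; group
        _ = _ := by rw [h2.eq]; group
  rw [e, show D.w * (a * D.two v * τ * n * b') =
    (D.w * a * D.w⁻¹) * ((D.w * τ * D.w⁻¹) * (D.w * (τ⁻¹ * D.two v * τ) * n)) * b' by group]
  refine R.cells_U_right (R.cells_U (R.cells_Tor ?_ (R.w_T hτ).1) ha) hb'
  have e2 := (h v).2.2.2
  rw [inv_inv] at e2
  rw [e2]
  exact R.cells_two_w hn

/-- everything lies in a cell -/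
theorem cells_all (hgen : Subgroup.closure (Set.range D.Φ ∪ {D.w}) = ⊤) (g : G) : g ∈ D.cells := by
  let S : Subgroup G :=
    { carrier := {g | (∀ x ∈ D.cells, g * x ∈ D.cells) ∧ ∀ x ∈ D.cells, g⁻¹ * x ∈ D.cells}
      one_mem' := ⟨fun x hx => by simpa using hx, fun x hx => by simpa using hx⟩
      mul_mem' := fun {a b} ha hb => ⟨fun x hx => by rw [mul_assoc]; exact ha.1 _ (hb.1 x hx),
        fun x hx => by rw [_root_.mul_inv_rev, mul_assoc]; exact hb.2 _ (ha.2 x hx)⟩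
      inv_mem' := fun {a} ha => ⟨ha.2, fun x hx => by rw [inv_inv]; exact ha.1 x hx⟩ }
  have hX : ∀ b, D.X b ∈ S := fun b =>
    ⟨fun x hx => R.cells_U hx (D.X_U b), fun x hx => R.cells_U hx (inv_mem (D.X_U b))⟩
  have hT : D.T ∈ S := ⟨fun x hx => R.cells_T hx, fun x hx => by
    rw [show D.T⁻¹ * x = (D.T * D.T)⁻¹ * (D.T * x) by group]
    exact R.cells_Tor (R.cells_T hx) (inv_mem (D.T_sq ▸ D.H_Tor (neg_ne_zero.2 one_ne_zero)))⟩
  have hw : D.w ∈ S := ⟨fun x hx => R.cells_w hx, fun x hx => by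
    rw [show D.w⁻¹ * x = (D.w * D.w)⁻¹ * (D.w * x) by group]
    exact R.cells_Tor (R.cells_w hx) (inv_mem R.w_sq)⟩
  have hS : S = ⊤ := by
    refine eq_top_iff.2 (hgen ▸ (Subgroup.closure_le _).2 ?_)
    rintro x (⟨m, rfl⟩ | rfl)
    swap
    · exact hw
    have hlow : ∀ b, D.Φ (lower b) ∈ S := fun b => by
      rw [← neg_neg b, ← D.T_X]
      exact mul_mem (mul_mem hT (hX _)) (inv_mem hT)
    have : (S.comap D.Φ) = ⊤ := CfsgLib.Classical.sl_eq_top _ fun i j hij c => by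
      fin_cases i <;> fin_cases j <;> simp at hij
      · show D.Φ _ ∈ S
        convert hX c using 2
        rw [Dat.X]
        congr 1
        apply Subtype.ext
        ext a b
        fin_cases a <;> fin_cases b <;> simp [upper, Matrix.SpecialLinearGroup.transvection, Matrix.transvection]
      · show D.Φ _ ∈ S
        convert hlow c using 2
        apply Subtype.ext
        ext a b
        fin_cases a <;> fin_cases b <;> simp [lower, Matrix.SpecialLinearGroup.transvection, Matrix.transvection]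
    exact (this ▸ Subgroup.mem_top m : m ∈ S.comap D.Φ)
  have h1 : (1 : G) ∈ D.cells := ⟨1, one_mem _, 1, one_mem _, 1, by simp [Dat.reps], 1, one_mem _, by group⟩
  simpa using (hS ▸ Subgroup.mem_top g : g ∈ S).1 1 h1

end Rels

end CfsgLib.Lie.BoundedPres.SUFour
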