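import Cfsg.Agent.Lib.Lie.BoundedPres.SU4.Rels

/-!
# Commutators of the root elements of `SU₄`
-/

set_option autoImplicit false
set_option maxHeartbeats 400000

namespace CfsgLib.Lie.BoundedPres.SUFour

open CfsgLib.SU CfsgLib.Lie.ShortPres
open CfsgLib.Lie.SL2Rel.Fam (upper lower)
open scoped commutatorElement

universe u v

variable {F : Type u} [Field F] [Finite F] {q : ℕ} {G : Type v} [Group G]

/-- commuting with the two short root groups -/
def Dat.Cen (D : Dat F G) (g : G) : Prop := ∀ b, Commute g (D.X b) ∧ Commute g (D.y b)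

namespace Rels

variable {C : UCtx F q} {D : Dat F G} {ω δ b₀ : F} (R : Rels C D ω δ b₀)
include R

theorem commute_HK {a b : F} (ha : a ≠ 0) (hb : b ≠ 0) : Commute (D.H a) (D.K b) := by
  obtain ⟨n, rfl⟩ := R.hω a ha
  obtain ⟨m, rfl⟩ := R.hω b hb
  rw [D.H_pow R.hω0, D.K_pow R.hω0]
  exact R.e1.pow_pow n m

theorem w_K {a : F} (ha : a ≠ 0) : D.w * D.K a * D.w⁻¹ = D.H a := by
  obtain ⟨n, rfl⟩ := R.hω a ha
  rw [D.H_pow R.hω0, D.K_pow R.hω0, ← conj_pow, R.e4]

theorem T_K {a : F} (ha : a ≠ 0) : D.T * D.K a * D.T⁻¹ = D.K (C.bar a) := by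
  obtain ⟨n, rfl⟩ := R.hω a ha
  rw [map_pow, D.K_pow R.hω0, D.K_pow ((map_ne_zero C.bar).2 R.hω0), ← conj_pow, R.e5]

theorem H_y {a : F} (ha : a ≠ 0) (c : F) : D.H a * D.y c * (D.H a)⁻¹ = D.y (a / C.bar a * c) := by
  rw [← R.w_K ha, Dat.y, Dat.y, ← R.K_X ha]; group

omit R [Finite F] in
theorem K_y' {a : F} (ha : a ≠ 0) (c : F) : D.K a * D.y c * (D.K a)⁻¹ = D.y (a ^ 2 * c) := by
  rw [Dat.y, Dat.y, ← D.H_X ha, Dat.K]; group

theorem H_comm {a : F} (ha : a ≠ 0) (b c : F) :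
    D.H a * ⁅D.X b, D.y c⁆ * (D.H a)⁻¹ = ⁅D.X (a ^ 2 * b), D.y (a / C.bar a * c)⁆ := by
  rw [← D.H_X ha, ← R.H_y ha]
  simp only [commutatorElement_def]; group

theorem K_comm {a : F} (ha : a ≠ 0) (b c : F) :
    D.K a * ⁅D.X b, D.y c⁆ * (D.K a)⁻¹ = ⁅D.X (a / C.bar a * b), D.y (a ^ 2 * c)⁆ := by
  rw [← R.K_X ha, ← K_y' ha]
  simp only [commutatorElement_def]; group

theorem cen_conj {g : G} (hg : D.Cen g) {a : F} (ha : a ≠ 0) :
    D.Cen (D.H a * g * (D.H a)⁻¹) ∧ D.Cen (D.K a * g * (D.K a)⁻¹) := by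
  have hba : C.bar a ≠ 0 := (map_ne_zero C.bar).2 ha
  refine ⟨fun b => ⟨?_, ?_⟩, fun b => ⟨?_, ?_⟩⟩
  · rw [show D.X b = D.H a * D.X ((a ^ 2)⁻¹ * b) * (D.H a)⁻¹ by
      rw [D.H_X ha, mul_inv_cancel_left₀ (pow_ne_zero _ ha)]]
    exact (Commute.conj_iff _).2 (hg _).1
  · rw [show D.y b = D.H a * D.y ((a / C.bar a)⁻¹ * b) * (D.H a)⁻¹ by
      rw [R.H_y ha, mul_inv_cancel_left₀ (div_ne_zero ha hba)]]
    exact (Commute.conj_iff _).2 (hg _).2
  · rw [show D.X b = D.K a * D.X ((a / C.bar a)⁻¹ * b) * (D.K a)⁻¹ by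
      rw [R.K_X ha, mul_inv_cancel_left₀ (div_ne_zero ha hba)]]
    exact (Commute.conj_iff _).2 (hg _).1
  · rw [show D.y b = D.K a * D.y ((a ^ 2)⁻¹ * b) * (D.K a)⁻¹ by
      rw [K_y' ha, mul_inv_cancel_left₀ (pow_ne_zero _ ha)]]
    exact (Commute.conj_iff _).2 (hg _).2

theorem cen_base : D.Cen (D.one b₀) := fun b => by
  refine ⟨R.q1 b, ?_⟩
  rw [Dat.y, ← R.q3]
  exact (Commute.conj_iff _).2 (R.q1 b)

omit R [Finite F] in
theorem comm_add_left {b b' c : F} (hb' : D.Cen ⁅D.X b', D.y c⁆) :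
    ⁅D.X (b + b'), D.y c⁆ = ⁅D.X b', D.y c⁆ * ⁅D.X b, D.y c⁆ := by
  have h := (hb' b).1.symm.mul_inv_cancel
  calc ⁅D.X (b + b'), D.y c⁆ = D.X b * ⁅D.X b', D.y c⁆ * (D.X b)⁻¹ * ⁅D.X b, D.y c⁆ := by
        rw [D.X_add]; simp only [commutatorElement_def]; group
    _ = _ := by rw [h]

omit R [Finite F] in
theorem comm_add_right {b c c' : F} (hc' : D.Cen ⁅D.X b, D.y c'⁆) :
    ⁅D.X b, D.y (c + c')⁆ = ⁅D.X b, D.y c⁆ * ⁅D.X b, D.y c'⁆ := by
  have h := (hc' c).2.symm.mul_inv_cancel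
  calc ⁅D.X b, D.y (c + c')⁆ = ⁅D.X b, D.y c⁆ * (D.y c * ⁅D.X b, D.y c'⁆ * (D.y c)⁻¹) := by
        rw [D.y_add]; simp only [commutatorElement_def]; group
    _ = _ := by rw [h]

omit R [Finite F] in
theorem cen_mul {g g' : G} (h : D.Cen g) (h' : D.Cen g') : D.Cen (g * g') := fun b =>
  ⟨(h b).1.mul_left (h' b).1, (h b).2.mul_left (h' b).2⟩

omit R [Finite F] in
theorem cen_neg {b c : F} (h : D.Cen ⁅D.X b, D.y c⁆) : D.Cen ⁅D.X (-b), D.y c⁆ := by
  have e : ⁅D.X (-b), D.y c⁆ = ⁅D.X b, D.y c⁆⁻¹ := by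
    calc ⁅D.X (-b), D.y c⁆ = (D.X b)⁻¹ * ⁅D.X b, D.y c⁆⁻¹ * D.X b := by
          rw [← D.X_inv]; simp only [commutatorElement_def]; group
      _ = _ := ((h b).1.inv_left.symm).inv_mul_cancel
  rw [e]
  exact fun b => ⟨(h b).1.inv_left, (h b).2.inv_left⟩

theorem real_split (b : F) : ∃ s : F, C.bar s = s ∧ b = (b + C.bar b) * b₀ + s * δ := by
  refine ⟨(b - (b + C.bar b) * b₀) / δ, ?_, ?_⟩
  · have hd : C.bar δ = -δ := eq_neg_of_add_eq_zero_right R.hδ'
    rw [map_div₀, hd, div_neg, neg_div' , div_left_inj' R.hδ, map_sub, map_mul, map_add, C.bar_bar]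
    linear_combination (b + C.bar b) * R.hb₀
  · rw [div_mul_cancel₀ _ R.hδ, add_sub_cancel]

theorem one_sq {s : F} (hs : C.bar s = s) (hs0 : s ≠ 0) (b : F) :
    D.H s * D.one b * (D.H s)⁻¹ = D.one (s ^ 2 * b) := by
  rw [Dat.one, Dat.one, R.H_comm hs0, hs, div_self hs0, one_mul]

theorem cen_one : ∀ b, D.Cen (D.one b) := by
  let S : AddSubgroup F :=
    { carrier := {b | D.Cen (D.one b)}
      zero_mem' := by
        intro b
        simp [Dat.one, D.X_zero]
      add_mem' := fun {x y} hx hy => by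
        show D.Cen _
        rw [Dat.one, comm_add_left hy]
        exact cen_mul hy hx
      neg_mem' := fun {x} hx => cen_neg hx }
  have key : ∀ c, D.Cen (D.one c) → ∀ r, C.bar r = r → r * c ∈ S := by
    intro c hc r hr
    let S' : AddSubgroup F :=
      { carrier := {r | r * c ∈ S}
        zero_mem' := by
          show (0 : F) * c ∈ S
          rw [zero_mul]; exact S.zero_mem
        add_mem' := fun {x y} hx hy => by
          show (x + y) * c ∈ S
          rw [add_mul]; exact S.add_mem hx hy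
        neg_mem' := fun {x} hx => by
          show -x * c ∈ S
          rw [neg_mul]; exact S.neg_mem hx }
    refine fixed_mem C S' (fun s hs => ?_) hr
    by_cases hs0 : s = 0
    · rw [hs0, zero_pow two_ne_zero]; exact S'.zero_mem
    show D.Cen (D.one (s ^ 2 * c))
    rw [← R.one_sq hs hs0]
    exact (R.cen_conj hc hs0).1
  intro b
  obtain ⟨s, hs, e⟩ := R.real_split b
  rw [e]
  refine S.add_mem (key b₀ R.cen_base _ (by rw [map_add, C.bar_bar, add_comm])) (key δ ?_ s hs)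
  rw [R.q4]
  exact fun b => ⟨Commute.one_left _, Commute.one_left _⟩

theorem one_add (b b' : F) : D.one (b + b') = D.one b * D.one b' := by
  rw [add_comm]; exact comm_add_left (R.cen_one b)

/-- the additive map to the highest root group -/
theorem exists_oneHom : ∃ f : F →+ Additive G, ∀ b, f b = Additive.ofMul (D.one b) :=
  ⟨AddMonoidHom.mk' (fun b => Additive.ofMul (D.one b)) fun b b' => congrArg Additive.ofMul (R.one_add b b'),
    fun _ => rfl⟩

theorem one_sub_eq {b b' : F} (h : D.one (b - b') = 1) : D.one b = D.one b' := by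
  rw [← sub_add_cancel b b', R.one_add, h, one_mul]

theorem one_delta {s : F} (hs : C.bar s = s) : D.one (s * δ) = 1 := by
  let S : AddSubgroup F :=
    { carrier := {r | D.one (r * δ) = 1}
      zero_mem' := by simp [Dat.one, D.X_zero]
      add_mem' := fun {x y} hx hy => by
        show _ = _
        rw [add_mul, R.one_add, hx, hy, one_mul]
      neg_mem' := fun {x} hx => by
        show _ = _
        have := R.one_add (-(x * δ)) (x * δ)
        rw [neg_add_cancel, hx, mul_one, show D.one (0 : F) = 1 by simp [Dat.one, D.X_zero]] at this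
        rw [neg_mul]; exact this.symm }
  refine fixed_mem C S (fun r hr => ?_) hs
  by_cases hr0 : r = 0
  · rw [hr0, zero_pow two_ne_zero]; exact S.zero_mem
  show _ = _
  rw [← R.one_sq hr hr0, R.q4, mul_one, mul_inv_cancel]

theorem one_trace (b : F) : D.one b = D.one ((b + C.bar b) * b₀) := by
  obtain ⟨s, hs, e⟩ := R.real_split b
  refine R.one_sub_eq ?_
  rw [show b - (b + C.bar b) * b₀ = s * δ from sub_eq_iff_eq_add'.2 e]
  exact R.one_delta hs

theorem one_congr {b b' : F} (h : b + C.bar b = b' + C.bar b') : D.one b = D.one b' := by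
  rw [R.one_trace b, R.one_trace b', h]

theorem one_bar (b : F) : D.one (C.bar b) = D.one b := R.one_congr (by rw [C.bar_bar, add_comm])

theorem torus_one {a : F} (ha : a ≠ 0) (b : F) :
    D.H a * D.one b * (D.H a)⁻¹ = D.one (a * C.bar a * b) ∧
      D.K a * D.one b * (D.K a)⁻¹ = D.one (a * C.bar a * b) := by
  have gen : ∀ g : G, (∀ s, s ≠ 0 → Commute (D.H s) g) →
      g * D.one b₀ * g⁻¹ = D.one (ω * C.bar ω * b₀) → ∀ b, g * D.one b * g⁻¹ = D.one (ω * C.bar ω * b) := by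
    intro g hg hbase b
    let S : AddSubgroup F :=
      { carrier := {r | g * D.one (r * b₀) * g⁻¹ = D.one (ω * C.bar ω * (r * b₀))}
        zero_mem' := by simp [Dat.one, D.X_zero]
        add_mem' := fun {x y} hx hy => by
          show _ = _
          rw [add_mul, R.one_add, mul_add, R.one_add, ← hx, ← hy]; group
        neg_mem' := fun {x} hx => by
          show _ = _
          have e : ∀ t, D.one (-t) = (D.one t)⁻¹ := fun t => eq_inv_of_mul_eq_one_left (by
            rw [← R.one_add, neg_add_cancel]; simp [Dat.one, D.X_zero])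
          rw [neg_mul, mul_neg, e, e, ← hx]; group }
    have hr : b + C.bar b ∈ S := by
      refine fixed_mem C S (fun s hs => ?_) (by
        show C.bar (b + C.bar b) = b + C.bar b
        rw [map_add, C.bar_bar, add_comm])
      by_cases hs0 : s = 0
      · rw [hs0, zero_pow two_ne_zero]; exact S.zero_mem
      show g * D.one (s ^ 2 * b₀) * g⁻¹ = D.one (ω * C.bar ω * (s ^ 2 * b₀))
      rw [← mul_left_comm (s ^ 2), ← R.one_sq hs hs0, ← R.one_sq hs hs0, ← hbase]
      calc g * (D.H s * D.one b₀ * (D.H s)⁻¹) * g⁻¹ = (g * D.H s) * D.one b₀ * (g * D.H s)⁻¹ := by group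
        _ = (D.H s * g) * D.one b₀ * (D.H s * g)⁻¹ := by rw [(hg s hs0).eq]
        _ = _ := by group
    rw [R.one_trace b]
    refine (Eq.trans hr ?_)
    refine R.one_congr ?_
    simp only [map_mul, map_add, C.bar_bar]
    linear_combination (ω * C.bar ω * (b + C.bar b)) * R.hb₀
  have hH := gen (D.H ω) (fun s hs => by
    rw [commute_iff_eq, ← D.H_mul hs R.hω0, ← D.H_mul R.hω0 hs, mul_comm]) R.q5'
  have hK := gen (D.K ω) (fun s hs => R.commute_HK hs R.hω0) (R.q5.trans R.q5')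
  obtain ⟨n, rfl⟩ := R.hω a ha
  clear ha
  induction n generalizing b with
  | zero => simp [D.H_one, D.K_one]
  | succ n ih =>
    rw [pow_succ, D.H_mul (pow_ne_zero _ R.hω0) R.hω0, D.K_mul (pow_ne_zero _ R.hω0) R.hω0,
      show D.H (ω ^ n) * D.H ω * D.one b * (D.H (ω ^ n) * D.H ω)⁻¹ =
        D.H (ω ^ n) * (D.H ω * D.one b * (D.H ω)⁻¹) * (D.H (ω ^ n))⁻¹ by group,
      show D.K (ω ^ n) * D.K ω * D.one b * (D.K (ω ^ n) * D.K ω)⁻¹ =
        D.K (ω ^ n) * (D.K ω * D.one b * (D.K ω)⁻¹) * (D.K (ω ^ n))⁻¹ by group, hH, hK, (ih _).1, (ih _).2]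
    simp only [map_mul, mul_assoc, mul_left_comm, mul_comm, and_self]

/-- the commutator of the short root groups -/
theorem comm_eq (b c : F) : ⁅D.X b, D.y c⁆ = D.one (b * C.bar c) := by
  let S : AddSubgroup F :=
    { carrier := {c | ∀ b, ⁅D.X b, D.y c⁆ = D.one (b * C.bar c)}
      zero_mem' := fun b => by simp [Dat.one, D.y_zero, D.X_zero]
      add_mem' := fun {x y} hx hy b => by
        rw [comm_add_right (hy b ▸ R.cen_one _), hx, hy, ← R.one_add, map_add, mul_add]
      neg_mem' := fun {x} hx b => by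
        have h := comm_add_right (D := D) (b := b) (c := -x) (c' := x) (hx b ▸ R.cen_one _)
        rw [neg_add_cancel, D.y_zero, commutatorElement_one_right, hx] at h
        rw [eq_inv_of_mul_eq_one_left h.symm]
        symm
        refine eq_inv_of_mul_eq_one_left ?_
        rw [← R.one_add, ← mul_add, ← map_add, neg_add_cancel, map_zero, mul_zero]
        simp [Dat.one, D.X_zero] }
  refine mem_of_squares (S := S) (RingHom.id F) (fun s _ b => ?_) rfl b
  by_cases hs : s = 0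
  · simp [hs, Dat.one, D.y_zero, D.X_zero]
  have hbs : C.bar s ≠ 0 := (map_ne_zero C.bar).2 hs
  have e := R.K_comm hs (C.bar s / s * b) 1
  rw [show s / C.bar s * (C.bar s / s * b) = b by field_simp, mul_one] at e
  rw [← e, ← Dat.one, (R.torus_one hs _).2]
  congr 1
  rw [map_pow]
  field_simp

theorem cen_comm (b c : F) : D.Cen ⁅D.X b, D.y c⁆ := R.comm_eq b c ▸ R.cen_one _

theorem one_comm_one (b b' : F) : Commute (D.one b) (D.one b') := by
  rw [commute_iff_eq, ← R.one_add, ← R.one_add, add_comm]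

theorem w_one (b : F) : D.w * D.one b * D.w⁻¹ = D.one b := by
  rw [R.one_trace b]
  by_cases hr : b + C.bar b = 0
  · rw [hr, zero_mul]; simp [Dat.one, D.X_zero]
  obtain ⟨a, ha⟩ := C.exists_norm (show C.bar (b + C.bar b) = b + C.bar b by rw [map_add, C.bar_bar, add_comm])
  have ha0 : a ≠ 0 := fun h => hr (by rw [← ha, h, zero_mul])
  rw [← ha]
  conv_lhs => rw [← (R.torus_one ha0 b₀).1]
  rw [← (R.torus_one ha0 b₀).2]
  conv_rhs => rw [Dat.K, ← R.q3]
  group

theorem T_y (c : F) : D.T * D.y c * D.T⁻¹ = D.y (-C.bar c) := by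
  let S : AddSubgroup F :=
    { carrier := {c | D.T * D.y c * D.T⁻¹ = D.y (-C.bar c)}
      zero_mem' := by simp [D.y_zero]
      add_mem' := fun {x y} hx hy => by
        show _ = _
        rw [map_add, neg_add, D.y_add, D.y_add, ← hx, ← hy]; group
      neg_mem' := fun {x} hx => by
        show _ = _
        have e : ∀ t, D.y (-t) = (D.y t)⁻¹ := fun t => eq_inv_of_mul_eq_one_left (by
          rw [← D.y_add, neg_add_cancel, D.y_zero])
        rw [map_neg, e, e, ← hx]; group }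
  refine mem_of_squares (S := S) (RingHom.id F) (fun s _ => ?_) rfl
  by_cases hs : s = 0
  · rw [hs, zero_pow two_ne_zero]; exact S.zero_mem
  show _ = _
  have hbs : C.bar s ≠ 0 := (map_ne_zero C.bar).2 hs
  conv_lhs => rw [← mul_one (s ^ 2), ← K_y' hs]
  calc D.T * (D.K s * D.y 1 * (D.K s)⁻¹) * D.T⁻¹
      = (D.T * D.K s * D.T⁻¹) * (D.T * D.y 1 * D.T⁻¹) * (D.T * D.K s * D.T⁻¹)⁻¹ := by group
    _ = D.y (C.bar s ^ 2 * -1) := by rw [R.T_K hs, R.q8, K_y' hbs]
    _ = _ := by rw [map_pow, mul_neg, mul_one]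

end Rels

end CfsgLib.Lie.BoundedPres.SUFour
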