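import Cfsg.Agent.Lib.Lie.BoundedPres.SU4.Kernel

/-!
# The Levi `SL₂(q²)` and the long Weyl element generate `SU₄`

An isotropic column is reduced to a multiple of `e₁`, the opposite column by the unipotent group, and what is
left is a unitary matrix of size two.
-/

set_option autoImplicit false
set_option maxHeartbeats 400000

namespace CfsgLib.Lie.BoundedPres.SUFour

open Matrix CfsgLib.SU CfsgLib.Lie.ShortPres CfsgLib.Lie.SL2Rel
open CfsgLib.Lie.SL2Rel.Fam (upper lower)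
open scoped commutatorElement

universe u

variable {F : Type u} [Field F] {q : ℕ} (C : UCtx F q) {δ : F} (hδ : δ ≠ 0) (hδ' : δ + C.bar δ = 0)

/-- what the generators generate -/
def genH : Subgroup ↥(grp C) := Subgroup.closure (Set.range (phiM C) ∪ {wM C δ hδ hδ'})

theorem phi_genH (g : Matrix.SpecialLinearGroup (Fin 2) F) : phiM C g ∈ genH C hδ hδ' :=
  Subgroup.subset_closure (Or.inl ⟨g, rfl⟩)

theorem w_genH : wM C δ hδ hδ' ∈ genH C hδ hδ' := Subgroup.subset_closure (Or.inr rfl)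

theorem X_genH (b : F) : (mdat C hδ hδ').X b ∈ genH C hδ hδ' := phi_genH C hδ hδ' _

theorem K_genH (a : F) : (mdat C hδ hδ').K a ∈ genH C hδ hδ' :=
  mul_mem (mul_mem (w_genH C hδ hδ') (phi_genH C hδ hδ' _)) (inv_mem (w_genH C hδ hδ'))

theorem y_genH (b : F) : (mdat C hδ hδ').y b ∈ genH C hδ hδ' :=
  mul_mem (mul_mem (w_genH C hδ hδ') (phi_genH C hδ hδ' _)) (inv_mem (w_genH C hδ hδ'))

theorem one_genH (b : F) : (mdat C hδ hδ').one b ∈ genH C hδ hδ' :=
  mul_mem (mul_mem (mul_mem (X_genH C hδ hδ' b) (y_genH C hδ hδ' 1)) (inv_mem (X_genH C hδ hδ' b)))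
    (inv_mem (y_genH C hδ hδ' 1))

theorem two_genH (b : F) : (mdat C hδ hδ').two b ∈ genH C hδ hδ' :=
  mul_mem (mul_mem (phi_genH C hδ hδ' _) (one_genH C hδ hδ' b)) (inv_mem (phi_genH C hδ hδ' _))

theorem grp_mul_mulVec {C : UCtx F q} (A B : ↥(grp C)) (v : Fin 4 → F) :
    (A * B).1.1 *ᵥ v = A.1.1 *ᵥ (B.1.1 *ᵥ v) := (mulVec_mulVec v A.1.1 B.1.1).symm

/-- a vector of norm zero for the form -/
theorem form4_col (A : ↥(grp C)) (i j : Fin 4) :
    form4 C (fun k => A.1.1 k i) (fun k => A.1.1 k j) = if i.val + j.val = 3 then 1 else 0 := by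
  have h := A.2 (Pi.single i 1) (Pi.single j 1)
  rw [mulVec_single_one, mulVec_single_one] at h
  refine Eq.trans h ?_
  fin_cases i <;> fin_cases j <;> simp [form4]

theorem exists_sl2 {v0 v1 : F} (h : ¬ (v0 = 0 ∧ v1 = 0)) :
    ∃ g : Matrix.SpecialLinearGroup (Fin 2) F, g.1 0 0 * v0 + g.1 0 1 * v1 = 1 ∧
      g.1 1 0 * v0 + g.1 1 1 * v1 = 0 := by
  by_cases h0 : v0 = 0
  · have h1 : v1 ≠ 0 := fun e => h ⟨h0, e⟩
    refine ⟨⟨!![0, v1⁻¹; -v1, 0], by rw [det_fin_two]; simp [h1]⟩, ?_, ?_⟩ <;> simp [h0, h1]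
  · refine ⟨⟨!![v0⁻¹, 0; -v1, v0], by rw [det_fin_two]; simp [h0]⟩, ?_, ?_⟩ <;> simp [h0] <;> ring

variable [Finite F] {b₀ : F} (hb₀ : b₀ + C.bar b₀ = 1)
include hb₀

theorem trace_real {r : F} (hr : C.bar r = r) : r * b₀ + C.bar (r * b₀) = r := by
  rw [map_mul, hr, ← mul_add, hb₀, mul_one]

/-- a non-zero isotropic vector is moved to a multiple of the first one -/
theorem exists_to_e {v : Fin 4 → F} (hv0 : v ≠ 0) (hv : form4 C v v = 0) :
    ∃ g ∈ genH C hδ hδ', ∃ c : F, c ≠ 0 ∧ g.1.1 *ᵥ v = ![c, 0, 0, 0] := by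
  obtain ⟨n, hn, en⟩ : ∃ n : ↥(grp C), n ∈ genH C hδ hδ' ∧
      ∀ y : Fin 4 → F, y 1 = 0 → y 2 = 0 → n.1.1 *ᵥ y = ![δ⁻¹ * y 3, 0, 0, -δ * y 0] := by
    refine ⟨(mdat C hδ hδ').T * wM C δ hδ hδ' * (mdat C hδ hδ').T * wM C δ hδ hδ',
      mul_mem (mul_mem (mul_mem (phi_genH C hδ hδ' _) (w_genH C hδ hδ')) (phi_genH C hδ hδ' _)) (w_genH C hδ hδ'),
      fun y y1 y2 => ?_⟩
    funext i
    simp only [grp_mul_val, ← mulVec_mulVec, mdat_T C hδ hδ', wM_val]
    fin_cases i <;> simp [mulVec, dotProduct, Fin.sum_univ_four, y1, y2]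
  -- the case where the first two coordinates are not both zero
  have main : ∀ v : Fin 4 → F, form4 C v v = 0 → ¬ (v 0 = 0 ∧ v 1 = 0) →
      ∃ g ∈ genH C hδ hδ', ∃ c : F, c ≠ 0 ∧ g.1.1 *ᵥ v = ![c, 0, 0, 0] := by
    intro v hv h01
    obtain ⟨g, g0, g1⟩ := exists_sl2 h01
    set x := (phiM C g).1.1 *ᵥ v with hx
    have x0 : x 0 = 1 := by
      rw [hx, phiM_val]; refine Eq.trans ?_ g0; simp [phiMat, mulVec, dotProduct, Fin.sum_univ_four]
    have x1 : x 1 = 0 := by
      rw [hx, phiM_val]; refine Eq.trans ?_ g1; simp [phiMat, mulVec, dotProduct, Fin.sum_univ_four]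
    have hform : form4 C x x = 0 := by rw [hx, (phiM C g).2]; exact hv
    have x3 : x 3 + C.bar (x 3) = 0 := by
      simp only [form4, x0, x1, map_one, map_zero] at hform
      linear_combination hform
    have hb : C.bar δ = -δ := eq_neg_of_add_eq_zero_right hδ'
    have hreal : C.bar (δ⁻¹ * x 3) = δ⁻¹ * x 3 := by
      rw [map_mul, map_inv₀, hb, eq_neg_of_add_eq_zero_right x3, inv_neg, neg_mul_neg]
    obtain ⟨t, ht⟩ : ∃ t, t + C.bar t = δ⁻¹ * x 3 := ⟨_, trace_real C hb₀ hreal⟩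
    refine ⟨n * (mdat C hδ hδ').one t * n *
      wM C δ hδ hδ' * phiM C (lower (δ⁻¹ * x 2)) * wM C δ hδ hδ' * phiM C g, ?_, ?_⟩
    · exact mul_mem (mul_mem (mul_mem (mul_mem (mul_mem (mul_mem hn (one_genH C hδ hδ' _)) hn)
        (w_genH C hδ hδ')) (phi_genH C hδ hδ' _)) (w_genH C hδ hδ')) (phi_genH C hδ hδ' _)
    have e1 : (wM C δ hδ hδ' * phiM C (lower (δ⁻¹ * x 2)) * wM C δ hδ hδ').1.1 *ᵥ x = ![1, 0, 0, x 3] := by
      funext i
      simp only [grp_mul_val, ← mulVec_mulVec, phiM_val, wM_val]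
      fin_cases i <;> simp [phiMat, lower, mulVec, dotProduct, Fin.sum_univ_four, x0, x1] <;>
        field_simp <;> ring
    refine ⟨-1, neg_ne_zero.2 one_ne_zero, ?_⟩
    have e0 : ((mdat C hδ hδ').one t).1.1 *ᵥ ![δ⁻¹ * x 3, 0, 0, -δ * 1] = ![0, 0, 0, -δ * 1] := by
      funext i
      rw [mdat_one C hδ hδ']
      fin_cases i <;> simp [oneMat, mulVec, dotProduct, Fin.sum_univ_four, ht]
      field_simp
      ring
    simp only [grp_mul_mulVec] at e1 ⊢
    rw [← hx, e1]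
    rw [en ![1, 0, 0, x 3] rfl rfl, show (![1, 0, 0, x 3] : Fin 4 → F) 3 = x 3 from rfl,
      show (![1, 0, 0, x 3] : Fin 4 → F) 0 = 1 from rfl, e0, en _ rfl rfl]
    funext i
    fin_cases i <;> simp [hδ]
  by_cases h01 : v 0 = 0 ∧ v 1 = 0
  · -- move one of the last two coordinates to the first two
    obtain ⟨h0, h1⟩ := h01
    by_cases h2 : v 2 = 0
    · have h3 : v 3 ≠ 0 := fun h3 => hv0 (funext fun i => by fin_cases i <;> assumption)
      let m : ↥(grp C) := wM C δ hδ hδ' * (mdat C hδ hδ').T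
      obtain ⟨g, hg, c, hc, e⟩ := main (m.1.1 *ᵥ v) (by rw [m.2]; exact hv) (fun h => h3 (by
        have := h.2
        simp [m, mdat_T C hδ hδ', wM_val, mulVec, dotProduct, Fin.sum_univ_four,
          h0, h1, h2, hδ] at this
        exact this))
      exact ⟨g * m, mul_mem hg (mul_mem (w_genH C hδ hδ') (phi_genH C hδ hδ' _)), c, hc,
        by rw [grp_mul_val, ← mulVec_mulVec, e]⟩
    · obtain ⟨g, hg, c, hc, e⟩ := main ((wM C δ hδ hδ').1.1 *ᵥ v) (by rw [(wM C δ hδ hδ').2]; exact hv)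
        (fun h => h2 (by
          have := h.2
          simp [wM_val, mulVec, dotProduct, Fin.sum_univ_four, hδ] at this
          exact this))
      exact ⟨g * wM C δ hδ hδ', mul_mem hg (w_genH C hδ hδ'), c, hc,
        by rw [grp_mul_val, ← mulVec_mulVec, e]⟩
  · exact main v hv h01

/-- the middle unitary group of size two -/
theorem mid_genH {A : ↥(grp C)} (h0 : ∀ k, A.1.1 k 0 = if k = 0 then 1 else 0)
    (h3 : ∀ k, A.1.1 k 3 = if k = 3 then 1 else 0) : A ∈ genH C hδ hδ' := by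
  have hbd : C.bar δ = -δ := eq_neg_of_add_eq_zero_right hδ'
  -- upper triangular middle
  have upp : ∀ A : ↥(grp C), (∀ k, A.1.1 k 0 = if k = 0 then 1 else 0) →
      (∀ k, A.1.1 k 3 = if k = 3 then 1 else 0) → A.1.1 2 1 = 0 → A ∈ genH C hδ hδ' := by
    intro A h0 h3 h21
    have c01 := form4_col C A 1 0
    have c31 := form4_col C A 1 3
    have c02 := form4_col C A 2 0
    have c32 := form4_col C A 2 3
    have c12 := form4_col C A 1 2
    have c22 := form4_col C A 2 2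
    simp [form4, h0, h3, h21] at c01 c31 c02 c32 c12 c22
    simp [c01, c31, c02, c32] at c12 c22
    have hd := A.1.2
    rw [det_succ_row_zero, Fin.sum_univ_four] at hd
    simp [det_fin_three, Fin.succAbove, h0, h3, h21, c01, c31, c02, c32] at hd
    have ha : A.1.1 1 1 ≠ 0 := fun e => by simp [e] at hd
    have hd2 : A.1.1 2 2 = (A.1.1 1 1)⁻¹ := eq_inv_of_mul_eq_one_right hd
    rw [hd2, map_inv₀] at c12
    rw [hd2] at c22
    have hr : C.bar (A.1.1 1 1) = A.1.1 1 1 := by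
      have := (map_ne_zero C.bar).2 ha
      field_simp at c12
      exact c12.symm
    obtain ⟨x, hx⟩ := C.exists_norm (c := (A.1.1 1 1)⁻¹) (by rw [map_inv₀, hr])
    have hx0 : x ≠ 0 := fun e => by rw [e, zero_mul] at hx; exact inv_ne_zero ha hx.symm
    rw [map_inv₀, hr] at c22
    have hs : C.bar (δ * (A.1.1 1 1 * A.1.1 1 2)) = δ * (A.1.1 1 1 * A.1.1 1 2) := by
      have e : C.bar (A.1.1 1 2) = -A.1.1 1 2 := by
        field_simp at c22
        linear_combination c22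
      rw [map_mul, map_mul, hr, hbd, e]; ring
    obtain ⟨t, ht⟩ : ∃ t, t + C.bar t = δ * (A.1.1 1 1 * A.1.1 1 2) := ⟨_, trace_real C hb₀ hs⟩
    have key : A = (mdat C hδ hδ').two t *
        ((mdat C hδ hδ').H x * (mdat C hδ hδ').K x⁻¹) := by
      refine grp_ext ?_
      simp only [grp_mul_val, mdat_two C hδ hδ', mdat_H C hδ hδ' hx0, mdat_K C hδ hδ' (inv_ne_zero hx0)]
      have hbx : C.bar x ≠ 0 := (map_ne_zero C.bar).2 hx0
      ext i j
      fin_cases i <;> fin_cases j <;>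
        simp [twoMat, torMat, mul_apply, Fin.sum_univ_four, h0, h3, h21, c01, c31, c02, c32, hd2, ht, map_inv₀]
      all_goals first
        | (field_simp at hx ⊢; linear_combination hx)
        | (field_simp at hx ⊢; linear_combination (-1 : F) * hx)
        | (field_simp at hx ⊢; linear_combination (A.1.1 1 2) * hx)
        | (field_simp at hx ⊢; linear_combination (-A.1.1 1 2) * hx)
        | field_simp
    rw [key]
    exact mul_mem (two_genH C hδ hδ' _) (mul_mem (phi_genH C hδ hδ' _) (K_genH C hδ hδ' _))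
  by_cases h21 : A.1.1 2 1 = 0
  · exact upp A h0 h3 h21
  have c11 := form4_col C A 1 1
  have c01 := form4_col C A 1 0
  have c31 := form4_col C A 1 3
  simp [form4, h0, h3] at c11 c01 c31
  simp [c01, c31] at c11
  have hs : C.bar (-(δ * (A.1.1 1 1 / A.1.1 2 1))) = -(δ * (A.1.1 1 1 / A.1.1 2 1)) := by
    have := (map_ne_zero C.bar).2 h21
    rw [map_neg, map_mul, hbd, map_div₀]
    field_simp
    linear_combination c11
  obtain ⟨t, ht⟩ : ∃ t, t + C.bar t = -(δ * (A.1.1 1 1 / A.1.1 2 1)) := ⟨_, trace_real C hb₀ hs⟩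
  set g : ↥(grp C) := wM C δ hδ hδ' * (mdat C hδ hδ').two t with hg
  have hgm : g ∈ genH C hδ hδ' := mul_mem (w_genH C hδ hδ') (two_genH C hδ hδ' _)
  refine (Subgroup.mul_mem_cancel_left _ hgm).1 (upp (g * A) (fun k => ?_) (fun k => ?_) ?_)
  · rw [hg]
    simp only [grp_mul_val, mdat_two C hδ hδ', wM_val]
    fin_cases k <;> simp [twoMat, mul_apply, Fin.sum_univ_four, h0, h3]
  · rw [hg]
    simp only [grp_mul_val, mdat_two C hδ hδ', wM_val]
    fin_cases k <;> simp [twoMat, mul_apply, Fin.sum_univ_four, h0, h3]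
  · rw [hg]
    simp only [grp_mul_val, mdat_two C hδ hδ', wM_val]
    simp only [twoMat, ht]
    simp [mul_apply, Fin.sum_univ_four, c01, c31]
    field_simp
    ring

/-- the generators generate -/
theorem genH_top : genH C hδ hδ' = ⊤ := by
  refine eq_top_iff.2 fun A _ => ?_
  have hcol : ∀ (B : ↥(grp C)) (i : Fin 4), (fun k => B.1.1 k i) = B.1.1 *ᵥ Pi.single i 1 := fun B i => by
    rw [mulVec_single_one]; rfl
  obtain ⟨g, hg, c, hc, e⟩ := exists_to_e C hδ hδ' hb₀ (v := fun k => A.1.1 k 0)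
    (fun h => by
      have hd := A.1.2
      rw [Matrix.det_eq_zero_of_column_eq_zero 0 fun k => congrFun h k] at hd
      exact zero_ne_one hd)
    (by simpa using form4_col C A 0 0)
  let A1 : ↥(grp C) := (mdat C hδ hδ').H c⁻¹ * (g * A)
  have hA1 : ∀ k, A1.1.1 k 0 = if k = 0 then 1 else 0 := by
    intro k
    have h := congrFun (hcol A1 0) k
    simp only [A1, grp_mul_val, ← mulVec_mulVec] at h
    rw [← hcol A 0, e, mdat_H C hδ hδ' (inv_ne_zero hc)] at h
    simp only [A1, grp_mul_val, mdat_H C hδ hδ' (inv_ne_zero hc)]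
    refine Eq.trans h ?_
    fin_cases k <;> simp [torMat, mulVec, dotProduct, Fin.sum_univ_four, hc]
  have hA1g : A ∈ genH C hδ hδ' ↔ A1 ∈ genH C hδ hδ' := by
    refine ((Subgroup.mul_mem_cancel_left _ (mul_mem (phi_genH C hδ hδ' (hm c⁻¹)) hg)).symm.trans ?_)
    rw [mul_assoc]
    rfl
  rw [hA1g]
  have c30 := form4_col C A1 3 0
  have c33 := form4_col C A1 3 3
  simp [form4, hA1] at c30 c33
  have hb : C.bar δ = -δ := eq_neg_of_add_eq_zero_right hδ'
  set r := A1.1.1 0 3 + C.bar (A1.1.1 2 3) * A1.1.1 1 3 with hr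
  rw [c30, map_one] at c33
  have hreal : C.bar (r * δ) = r * δ := by
    rw [hr, map_mul, map_add, map_mul, hb, C.bar_bar]
    linear_combination (-δ) * c33
  obtain ⟨t, ht⟩ : ∃ t, t + C.bar t = r * δ := ⟨_, trace_real C hb₀ hreal⟩
  set u : ↥(grp C) := (mdat C hδ hδ').X (-C.bar (A1.1.1 2 3)) * (mdat C hδ hδ').y (C.bar (δ * A1.1.1 1 3)) *
    (mdat C hδ hδ').one t with hu
  have hum : u ∈ genH C hδ hδ' := mul_mem (mul_mem (X_genH C hδ hδ' _) (y_genH C hδ hδ' _)) (one_genH C hδ hδ' _)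
  have hu0 : ∀ k, u.1.1 k 0 = if k = 0 then 1 else 0 := by
    intro k
    simp only [hu, grp_mul_val, mdat_X C hδ hδ', mdat_y C hδ hδ', mdat_one C hδ hδ']
    fin_cases k <;> simp [xMat, yMat, oneMat, mul_apply, Fin.sum_univ_four]
  have hu3 : ∀ k, u.1.1 k 3 = A1.1.1 k 3 := by
    intro k
    simp only [hu, grp_mul_val, mdat_X C hδ hδ', mdat_y C hδ hδ', mdat_one C hδ hδ']
    simp only [oneMat, ht]
    fin_cases k <;> simp [xMat, yMat, mul_apply, Fin.sum_univ_four, C.bar_bar, c30, hr] <;> field_simp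
    ring
  refine (Subgroup.mul_mem_cancel_left _ (inv_mem hum)).1 (mid_genH C hδ hδ' hb₀ (fun k => ?_) (fun k => ?_))
  · have h := congrFun (hcol (u⁻¹ * A1) 0) k
    refine Eq.trans h ?_
    rw [grp_mul_val, ← mulVec_mulVec, ← hcol A1 0, funext hA1, ← funext hu0, hcol u 0, mulVec_mulVec,
      ← grp_mul_val, inv_mul_cancel]
    rw [grp_one_val, one_mulVec, Pi.single_apply]
  · have h := congrFun (hcol (u⁻¹ * A1) 3) k
    refine Eq.trans h ?_
    rw [grp_mul_val, ← mulVec_mulVec, ← hcol A1 3, ← funext hu3, hcol u 3, mulVec_mulVec,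
      ← grp_mul_val, inv_mul_cancel]
    rw [grp_one_val, one_mulVec, Pi.single_apply]

end CfsgLib.Lie.BoundedPres.SUFour
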