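import Cfsg.Agent.Lib.Lie.BoundedPres.SU4.Cells

/-!
# The matrices of the root elements and injectivity
-/

set_option autoImplicit false
set_option maxHeartbeats 400000

namespace CfsgLib.Lie.BoundedPres.SUFour

open Matrix CfsgLib.SU CfsgLib.Lie.ShortPres CfsgLib.Lie.SL2Rel
open CfsgLib.Lie.SL2Rel.Fam (upper lower)
open scoped commutatorElement

universe u v

variable {F : Type u} [Field F] {q : ℕ} (C : UCtx F q) {δ : F} (hδ : δ ≠ 0) (hδ' : δ + C.bar δ = 0)

/-- the data of the matrices -/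
def mdat : Dat F ↥(grp C) := ⟨phiM C, wM C δ hδ hδ'⟩

theorem mdat_X (b : F) : ((mdat C hδ hδ').X b).1.1 = xMat C b := phiM_upper C b

theorem mdat_T : ((mdat C hδ hδ').T).1.1 = !![0, 1, 0, 0; -1, 0, 0, 0; 0, 0, 0, -1; 0, 0, 1, 0] := phiM_wm C

theorem mdat_H {a : F} (ha : a ≠ 0) : ((mdat C hδ hδ').H a).1.1 = torMat C a 1 := phiM_hm C ha

theorem mdat_K {a : F} (ha : a ≠ 0) : ((mdat C hδ hδ').K a).1.1 = torMat C 1 a := by
  have e : (mdat C hδ hδ').K a * wM C δ hδ hδ' = wM C δ hδ hδ' * (mdat C hδ hδ').H a := by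
    show (mdat C hδ hδ').w * (mdat C hδ hδ').H a * (mdat C hδ hδ').w⁻¹ * (mdat C hδ hδ').w = _
    rw [inv_mul_cancel_right]; rfl
  have h := congrArg (fun A : ↥(grp C) => A.1.1) e
  simp only [grp_mul_val, mdat_H C hδ hδ' ha, wM_val] at h
  have hba : C.bar a ≠ 0 := (map_ne_zero C.bar).2 ha
  have h2 : torMat C 1 a * !![1, 0, 0, 0; 0, 0, -δ⁻¹, 0; 0, δ, 0, 0; 0, 0, 0, 1] =
      !![1, 0, 0, 0; 0, 0, -δ⁻¹, 0; 0, δ, 0, 0; 0, 0, 0, 1] * torMat C a 1 := by
    ext i j
    fin_cases i <;> fin_cases j <;> simp [torMat, mul_apply, Fin.sum_univ_four, mul_comm]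
  have hu : IsUnit (wM C δ hδ hδ').1.1 := (Matrix.isUnit_iff_isUnit_det _).2 (by rw [(wM C δ hδ hδ').1.2]; exact isUnit_one)
  rw [wM_val] at hu
  exact hu.mul_right_cancel (h.trans h2.symm)

theorem mdat_y (c : F) : ((mdat C hδ hδ').y c).1.1 = yMat C δ c := by
  have e : (mdat C hδ hδ').y c * wM C δ hδ hδ' = wM C δ hδ hδ' * (mdat C hδ hδ').X c := by
    show (mdat C hδ hδ').w * (mdat C hδ hδ').X c * (mdat C hδ hδ').w⁻¹ * (mdat C hδ hδ').w = _
    rw [inv_mul_cancel_right]; rfl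
  have h := congrArg (fun A : ↥(grp C) => A.1.1) e
  simp only [grp_mul_val, mdat_X C hδ hδ', wM_val] at h
  have h2 : yMat C δ c * !![1, 0, 0, 0; 0, 0, -δ⁻¹, 0; 0, δ, 0, 0; 0, 0, 0, 1] =
      !![1, 0, 0, 0; 0, 0, -δ⁻¹, 0; 0, δ, 0, 0; 0, 0, 0, 1] * xMat C c := by
    ext i j
    fin_cases i <;> fin_cases j <;> simp [yMat, xMat, mul_apply, Fin.sum_univ_four] <;> field_simp
  have hu : IsUnit (wM C δ hδ hδ').1.1 := (Matrix.isUnit_iff_isUnit_det _).2 (by rw [(wM C δ hδ hδ').1.2]; exact isUnit_one)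
  rw [wM_val] at hu
  exact hu.mul_right_cancel (h.trans h2.symm)

theorem mdat_one (b : F) : ((mdat C hδ hδ').one b).1.1 = oneMat C δ b := by
  have e : (mdat C hδ hδ').one b * ((mdat C hδ hδ').y 1 * (mdat C hδ hδ').X b) =
      (mdat C hδ hδ').X b * (mdat C hδ hδ').y 1 := by
    rw [Dat.one, commutatorElement_def]; group
  have h := congrArg (fun A : ↥(grp C) => A.1.1) e
  simp only [grp_mul_val, mdat_X C hδ hδ', mdat_y C hδ hδ'] at h
  have h2 : oneMat C δ b * (yMat C δ 1 * xMat C b) = xMat C b * yMat C δ 1 := by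
    ext i j
    fin_cases i <;> fin_cases j <;> simp [oneMat, yMat, xMat, mul_apply, Fin.sum_univ_four]
    all_goals (first | ring | (field_simp; ring))
  have hu : IsUnit ((mdat C hδ hδ').y 1 * (mdat C hδ hδ').X b).1.1 :=
    (Matrix.isUnit_iff_isUnit_det _).2 (by rw [((mdat C hδ hδ').y 1 * (mdat C hδ hδ').X b).1.2]; exact isUnit_one)
  rw [grp_mul_val, mdat_y C hδ hδ', mdat_X C hδ hδ'] at hu
  exact hu.mul_right_cancel (h.trans h2.symm)

theorem mdat_two (b : F) : ((mdat C hδ hδ').two b).1.1 = twoMat C δ b := by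
  have e : (mdat C hδ hδ').two b * (mdat C hδ hδ').T = (mdat C hδ hδ').T * (mdat C hδ hδ').one b := by
    rw [Dat.two, inv_mul_cancel_right]
  have h := congrArg (fun A : ↥(grp C) => A.1.1) e
  simp only [grp_mul_val, mdat_T C hδ hδ', mdat_one C hδ hδ'] at h
  have h2 : twoMat C δ b * !![0, 1, 0, 0; -1, 0, 0, 0; 0, 0, 0, -1; 0, 0, 1, 0] =
      !![0, 1, 0, 0; -1, 0, 0, 0; 0, 0, 0, -1; 0, 0, 1, 0] * oneMat C δ b := by
    ext i j
    fin_cases i <;> fin_cases j <;> simp [oneMat, twoMat, mul_apply, Fin.sum_univ_four]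
  have hu : IsUnit ((mdat C hδ hδ').T).1.1 :=
    (Matrix.isUnit_iff_isUnit_det _).2 (by rw [((mdat C hδ hδ').T).1.2]; exact isUnit_one)
  rw [mdat_T C hδ hδ'] at hu
  exact hu.mul_right_cancel (h.trans h2.symm)

namespace Rels

variable [Finite F] {C} {G : Type v} [Group G] {D : Dat F G} {ω b₀ : F} (R : Rels C D ω δ b₀)
include R

theorem torus_kill {c : F} (hc0 : c ≠ 0) (hc : c * C.bar c = 1) : (D.H c)⁻¹ * D.K c = 1 := by
  obtain ⟨ψ, -, -, -, hψ⟩ := R.exists_psi
  obtain ⟨n, rfl⟩ := R.hω c hc0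
  have hs : (⟨ω * C.bar ω, C.norm_fixed ω⟩ : ↥(CfsgLib.Descent.fixedField C.bar)) ≠ 0 := fun h =>
    mul_ne_zero R.hω0 ((map_ne_zero C.bar).2 R.hω0) (congrArg Subtype.val h)
  have e : (⟨ω * C.bar ω, C.norm_fixed ω⟩ : ↥(CfsgLib.Descent.fixedField C.bar)) ^ n = 1 := Subtype.ext (by
    show (ω * C.bar ω) ^ n = 1
    rw [mul_pow, ← map_pow]; exact hc)
  have := congrArg ψ (hm_pow hs n)
  rw [map_pow, hψ, e, hm_one, map_one, (R.e1.inv_left).mul_pow, inv_pow, ← D.H_pow R.hω0,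
    ← D.K_pow R.hω0] at this
  exact this

/-- the map to the matrices is injective -/
theorem injective (hgen : Subgroup.closure (Set.range D.Φ ∪ {D.w}) = ⊤) (π : G →* ↥(grp C))
    (hΦ : ∀ g, π (D.Φ g) = phiM C g) (hw : π D.w = wM C δ hδ hδ') : Function.Injective π := by
  have pX : ∀ b, (π (D.X b)).1.1 = xMat C b := fun b => by rw [Dat.X, hΦ]; exact phiM_upper C b
  have pH : ∀ {a : F}, a ≠ 0 → (π (D.H a)).1.1 = torMat C a 1 := fun ha => by rw [Dat.H, hΦ]; exact phiM_hm C ha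
  have mK : ∀ a : F, π (D.K a) = (mdat C hδ hδ').K a := fun a => by
    simp only [Dat.K, Dat.H, map_mul, map_inv, hw, hΦ]; rfl
  have mY : ∀ c : F, π (D.y c) = (mdat C hδ hδ').y c := fun c => by
    simp only [Dat.y, Dat.X, map_mul, map_inv, hw, hΦ]; rfl
  have mO : ∀ b : F, π (D.one b) = (mdat C hδ hδ').one b := fun b => by
    simp only [Dat.one, map_commutatorElement, mY, Dat.X, hΦ]; rfl
  have mT : π D.T = (mdat C hδ hδ').T := by rw [Dat.T, hΦ]; rfl
  have mTwo : ∀ b : F, π (D.two b) = (mdat C hδ hδ').two b := fun b => by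
    simp only [Dat.two, map_mul, map_inv, mT, mO]
  -- upper triangular
  let UT : Submonoid (Matrix (Fin 4) (Fin 4) F) :=
    { carrier := {M | BlockTriangular M id}
      one_mem' := blockTriangular_one
      mul_mem' := fun ha hb => ha.mul hb }
  have hU : ∀ x ∈ D.U, (π x).1.1 ∈ UT := by
    intro x hx
    obtain ⟨v, c, r, b, rfl⟩ := R.U_form hx
    simp only [map_mul, grp_mul_val, pX, mY, mO, mTwo, mdat_y, mdat_one, mdat_two]
    refine UT.mul_mem (UT.mul_mem (UT.mul_mem ?_ ?_) ?_) ?_ <;>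
      (intro i j hij; fin_cases i <;> fin_cases j <;> simp_all [xMat, yMat, oneMat, twoMat])
  have hTor : ∀ x ∈ D.Tor, (π x).1.1 ∈ UT := by
    intro x hx
    obtain ⟨a, b, ha, hb, rfl⟩ := R.tor_form hx
    simp only [map_mul, grp_mul_val, pH ha, mK, mdat_K C hδ hδ' hb]
    refine UT.mul_mem ?_ ?_ <;> (intro i j hij; fin_cases i <;> fin_cases j <;> simp_all [torMat])
  refine (injective_iff_map_eq_one π).2 fun g hg => ?_
  obtain ⟨a, ha, τ, hτ, n, hn, b, hb, rfl⟩ := R.cells_all hgen g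
  have hn' : (π n).1.1 ∈ UT := by
    have e : π n = π τ⁻¹ * π a⁻¹ * π b⁻¹ := by
      simp only [map_mul] at hg
      simp only [map_inv]
      calc π n = (π τ)⁻¹ * (π a)⁻¹ * (π a * π τ * π n * π b) * (π b)⁻¹ := by group
        _ = _ := by rw [hg, mul_one]
    rw [e]
    exact UT.mul_mem (UT.mul_mem (hTor _ (inv_mem hτ)) (hU _ (inv_mem ha))) (hU _ (inv_mem hb))
  have h10 := hn' (show (0 : Fin 4) < 1 by decide)
  have h20 := hn' (show (0 : Fin 4) < 2 by decide)
  have h30 := hn' (show (0 : Fin 4) < 3 by decide)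
  have h21 := hn' (show (1 : Fin 4) < 2 by decide)
  have h31 := hn' (show (1 : Fin 4) < 3 by decide)
  rcases hn with rfl | rfl | rfl | rfl | rfl | rfl | rfl | rfl
  swap
  · simp [mT, mdat_T] at h10
  swap
  · simp [hw, wM_val, hδ] at h21
  swap
  · simp [map_mul, mT, mdat_T, hw, wM_val, mul_apply, Fin.sum_univ_four, hδ] at h31
  swap
  · simp [map_mul, mT, mdat_T, hw, wM_val, mul_apply, Fin.sum_univ_four, hδ] at h20
  swap
  · simp [map_mul, mT, mdat_T, hw, wM_val, mul_apply, Fin.sum_univ_four, hδ] at h30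
  swap
  · simp [map_mul, mT, mdat_T, hw, wM_val, mul_apply, Fin.sum_univ_four, hδ] at h20
  swap
  · simp [map_mul, mT, mdat_T, hw, wM_val, mul_apply, Fin.sum_univ_four, hδ] at h30
  rw [mul_one] at hg ⊢
  rw [show a * τ * b = τ * (τ⁻¹ * a * τ * b) by group] at hg ⊢
  obtain ⟨v, c, r, x, hu⟩ := R.U_form (g := τ⁻¹ * a * τ * b)
    (mul_mem (by simpa using R.tor_U (inv_mem hτ) ha) hb)
  rw [hu] at hg ⊢
  obtain ⟨A, B, hA, hB, rfl⟩ := R.tor_form hτ
  have key := congrArg (fun M : ↥(grp C) => M.1.1) hg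
  simp only [map_mul, grp_mul_val, grp_one_val, pH hA, mK, mdat_K C hδ hδ' hB, pX, mY, mO, mTwo, mdat_y,
    mdat_one, mdat_two] at key
  have hbA : C.bar A ≠ 0 := (map_ne_zero C.bar).2 hA
  have hbB : C.bar B ≠ 0 := (map_ne_zero C.bar).2 hB
  have d0 := congrFun (congrFun key 0) 0
  have d1 := congrFun (congrFun key 1) 1
  simp [torMat, xMat, yMat, oneMat, twoMat, mul_apply, Fin.sum_univ_four] at d0 d1
  have eA : A = C.bar B := by field_simp at d1; exact d1.symm
  have hN : B * C.bar B = 1 := by rw [← eA, mul_comm]; exact d0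
  have hN' : A * C.bar A = 1 := by rw [eA, C.bar_bar, mul_comm]; exact hN
  have hτ1 : D.H A * D.K B = 1 := by
    have hBA : A * B = 1 := d0
    have := R.torus_kill hB hN
    rw [inv_mul_eq_one] at this
    rw [← this, ← D.H_mul hA hB, hBA, D.H_one]
  rw [hτ1, one_mul]
  have ht : torMat C A 1 * torMat C 1 B = 1 := by
    have := congrArg (fun M : G => (π M).1.1) hτ1
    simpa only [map_mul, grp_mul_val, pH hA, mK, mdat_K C hδ hδ' hB, map_one, grp_one_val] using this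
  rw [ht, one_mul] at key
  have e01 := congrFun (congrFun key 0) 1
  have e12 := congrFun (congrFun key 1) 2
  have e02 := congrFun (congrFun key 0) 2
  have e03 := congrFun (congrFun key 0) 3
  simp [xMat, yMat, oneMat, twoMat, mul_apply, Fin.sum_univ_four, hδ] at e01 e12 e02 e03
  subst e01
  simp at e12 e02 e03
  have hz : ∀ {w : F}, w + C.bar w = 0 → D.one w = 1 := fun {w} h => by
    rw [R.one_congr (b' := 0) (by simpa using h)]; simp [Dat.one, D.X_zero]
  rw [Dat.two, hz (by linear_combination e12), e02, hz (e03.resolve_right hδ), D.y_zero, D.X_zero]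
  group

end Rels

end CfsgLib.Lie.BoundedPres.SUFour
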