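import Cfsg.Agent.Lib.SU.Basic
import Cfsg.Agent.Lib.Lie.ShortPres.SL2
import Mathlib.Tactic.NoncommRing

/-!
# `SU₄` for the antidiagonal form

Root elements, torus and Weyl elements in the basis `e₁, e₂, f₂, f₁`.
-/

set_option autoImplicit false

namespace CfsgLib.Lie.BoundedPres.SUFour

open Matrix CfsgLib.SU

universe u

variable {F : Type u} [Field F] {q : ℕ} (C : UCtx F q)

/-- the antidiagonal form -/
def form4 (u v : Fin 4 → F) : F :=
  u 0 * C.bar (v 3) + u 1 * C.bar (v 2) + u 2 * C.bar (v 1) + u 3 * C.bar (v 0)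

/-- the group of the antidiagonal form -/
def grp : Subgroup (Matrix.SpecialLinearGroup (Fin 4) F) where
  carrier := {A | ∀ u v, form4 C (A.1 *ᵥ u) (A.1 *ᵥ v) = form4 C u v}
  one_mem' u v := by simp
  mul_mem' {a b} ha hb u v := by
    rw [Matrix.SpecialLinearGroup.coe_mul, ← mulVec_mulVec, ← mulVec_mulVec, ha, hb]
  inv_mem' {a} ha u v := by
    conv_rhs => rw [← one_mulVec u, ← one_mulVec v,
      show (1 : Matrix (Fin 4) (Fin 4) F) = a.1 * (a⁻¹ : Matrix.SpecialLinearGroup (Fin 4) F).1 by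
        rw [← Matrix.SpecialLinearGroup.coe_mul, mul_inv_cancel, Matrix.SpecialLinearGroup.coe_one],
      ← mulVec_mulVec, ← mulVec_mulVec, ha]

/-- four vectors of the standard space with the antidiagonal Gram matrix -/
theorem exists_frame [Finite F] : ∃ M : Matrix (Fin 4) (Fin 4) F,
    (∀ u v, C.form (M *ᵥ u) (M *ᵥ v) = form4 C u v) ∧ M.det ≠ 0 := by
  classical
  obtain ⟨P⟩ := C.exists_pair (n := 4) (by omega)
  obtain ⟨P0⟩ := C.exists_pair (n := 2) le_rfl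
  obtain ⟨o, ho, hoo, -⟩ := P.exists_basis
  let e2 : Fin 4 → F := P0.e 0 • o 0 + P0.e 1 • o 1
  let f2 : Fin 4 → F := P0.f 0 • o 0 + P0.f 1 • o 1
  have hoo' : ∀ x y : Fin 2 → F, C.form (x 0 • o 0 + x 1 • o 1) (y 0 • o 0 + y 1 • o 1) = C.form x y := by
    intro x y
    simp only [C.form_add_left, C.form_add_right, C.form_smul_left, C.form_smul_right, hoo]
    simp [UCtx.form, Fin.sum_univ_two]
  have h22 : C.form e2 e2 = 0 := (hoo' _ _).trans P0.ee
  have g22 : C.form f2 f2 = 0 := (hoo' _ _).trans P0.ff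
  have m22 : C.form e2 f2 = 1 := (hoo' _ _).trans P0.ef
  have n22 : C.form f2 e2 = 1 := (hoo' _ _).trans P0.fe
  have he2 : e2 ∈ P.perp := P.perp.add_mem (P.perp.smul_mem _ (ho 0)) (P.perp.smul_mem _ (ho 1))
  have hf2 : f2 ∈ P.perp := P.perp.add_mem (P.perp.smul_mem _ (ho 0)) (P.perp.smul_mem _ (ho 1))
  refine ⟨fun i j => ![P.e, e2, f2, P.f] j i, ?_, ?_⟩
  · intro u v
    have hM : ∀ u : Fin 4 → F, (fun i j => ![P.e, e2, f2, P.f] j i : Matrix (Fin 4) (Fin 4) F) *ᵥ u =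
        u 0 • P.e + u 1 • e2 + u 2 • f2 + u 3 • P.f := fun u => by
      funext i
      simp [mulVec, dotProduct, Fin.sum_univ_four]
      ring
    rw [hM, hM]
    simp only [C.form_add_left, C.form_add_right, C.form_smul_left, C.form_smul_right, P.ee, P.ff, P.ef, P.fe,
      h22, g22, m22, n22, he2.1, he2.2, hf2.1, hf2.2, C.form_swap_zero he2.1, C.form_swap_zero he2.2,
      C.form_swap_zero hf2.1, C.form_swap_zero hf2.2, form4]
    ring
  · intro h
    obtain ⟨u, hu, hu0⟩ := Matrix.exists_mulVec_eq_zero_iff.2 h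
    refine hu ?_
    have hM : u 0 • P.e + u 1 • e2 + u 2 • f2 + u 3 • P.f = 0 := by
      rw [← hu0]
      funext i
      simp [mulVec, dotProduct, Fin.sum_univ_four]
      ring
    have key : ∀ w, C.form (u 0 • P.e + u 1 • e2 + u 2 • f2 + u 3 • P.f) w = 0 := fun w => by
      rw [hM, C.form_zero_left]
    have a0 := key P.f
    have a1 := key f2
    have a2 := key e2
    have a3 := key P.e
    simp [C.form_add_left, C.form_smul_left, P.ee, P.ff, P.ef, P.fe, h22, g22, m22, n22, he2.1, he2.2,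
      hf2.1, hf2.2, C.form_swap_zero he2.1, C.form_swap_zero he2.2, C.form_swap_zero hf2.1,
      C.form_swap_zero hf2.2] at a0 a1 a2 a3
    funext i
    fin_cases i
    exacts [a0, a1, a2, a3]

/-- the group is the standard special unitary group -/
theorem exists_equiv [Finite F] : Nonempty (↥(grp C) ≃* ↥(Cfsg.SU 4 F q)) := by
  obtain ⟨M, hM, hdet⟩ := exists_frame C
  have hu : IsUnit M.det := isUnit_iff_ne_zero.2 hdet
  have e1 : M * M⁻¹ = 1 := Matrix.mul_nonsing_inv M hu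
  have e2 : M⁻¹ * M = 1 := Matrix.nonsing_inv_mul M hu
  have hback : ∀ u, M *ᵥ (M⁻¹ *ᵥ u) = u := fun u => by rw [mulVec_mulVec, e1, one_mulVec]
  have conj : ∀ A : Matrix (Fin 4) (Fin 4) F, (M * A * M⁻¹).det = A.det := fun A => by
    rw [det_mul_right_comm, e1, one_mul]
  refine ⟨{
    toFun := fun A => C.mkSU (M * A.1.1 * M⁻¹) (by rw [conj, A.1.2]) fun u v => by
      rw [← mulVec_mulVec, ← mulVec_mulVec, ← mulVec_mulVec, ← mulVec_mulVec, hM, A.2, ← hM, hback, hback]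
    invFun := fun B => ⟨⟨M⁻¹ * B.1.1 * M, by rw [det_mul_right_comm, e2, one_mul, B.1.2]⟩, fun u v => by
      rw [← hM, ← hM]
      show C.form (M *ᵥ ((M⁻¹ * B.1.1 * M) *ᵥ u)) (M *ᵥ ((M⁻¹ * B.1.1 * M) *ᵥ v)) = _
      rw [← mulVec_mulVec, ← mulVec_mulVec, ← mulVec_mulVec, ← mulVec_mulVec, hback, hback, C.form_su]⟩
    left_inv := fun A => Subtype.ext (Subtype.ext (by
      show M⁻¹ * (M * A.1.1 * M⁻¹) * M = A.1.1
      rw [← mul_assoc, ← mul_assoc, e2, one_mul, mul_assoc, e2, mul_one]))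
    right_inv := fun B => Subtype.ext (Subtype.ext (by
      show M * (M⁻¹ * B.1.1 * M) * M⁻¹ = B.1.1
      rw [← mul_assoc, ← mul_assoc, e1, one_mul, mul_assoc, e1, mul_one]))
    map_mul' := fun A A' => Subtype.ext (Subtype.ext (by
      show M * (A.1.1 * A'.1.1) * M⁻¹ = (M * A.1.1 * M⁻¹) * (M * A'.1.1 * M⁻¹)
      calc M * (A.1.1 * A'.1.1) * M⁻¹ = M * A.1.1 * (M⁻¹ * M) * A'.1.1 * M⁻¹ := by
            rw [e2, mul_one, ← mul_assoc]
        _ = _ := by simp only [mul_assoc])) }⟩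

variable {C}

theorem grp_mul_val (A B : ↥(grp C)) : (A * B).1.1 = A.1.1 * B.1.1 := rfl

theorem grp_one_val : (1 : ↥(grp C)).1.1 = 1 := rfl

theorem grp_ext {A B : ↥(grp C)} (h : A.1.1 = B.1.1) : A = B := Subtype.ext (Subtype.ext h)

variable (C)

/-- `SL₂(q²)` on the two isotropic planes -/
def phiMat (g : Matrix (Fin 2) (Fin 2) F) : Matrix (Fin 4) (Fin 4) F :=
  !![g 0 0, g 0 1, 0, 0; g 1 0, g 1 1, 0, 0; 0, 0, C.bar (g 0 0), -C.bar (g 0 1);
    0, 0, -C.bar (g 1 0), C.bar (g 1 1)]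

theorem det_phiMat (g : Matrix (Fin 2) (Fin 2) F) : (phiMat C g).det = g.det * C.bar g.det := by
  rw [det_fin_two, det_succ_row_zero, Fin.sum_univ_four]
  simp [phiMat, det_fin_three, Fin.succAbove]
  ring

theorem phiMat_mul (g g' : Matrix (Fin 2) (Fin 2) F) : phiMat C (g * g') = phiMat C g * phiMat C g' := by
  ext i j
  fin_cases i <;> fin_cases j <;> simp [phiMat, mul_apply, Fin.sum_univ_two, Fin.sum_univ_four] <;> ring

/-- the homomorphism from `SL₂(q²)` -/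
def phiM : Matrix.SpecialLinearGroup (Fin 2) F →* ↥(grp C) where
  toFun g := ⟨⟨phiMat C g.1, by rw [det_phiMat, g.2, map_one, one_mul]⟩, fun u v => by
    have hd : g.1 0 0 * g.1 1 1 - g.1 0 1 * g.1 1 0 = 1 := by rw [← det_fin_two]; exact g.2
    have hd' : C.bar (g.1 0 0) * C.bar (g.1 1 1) - C.bar (g.1 0 1) * C.bar (g.1 1 0) = 1 := by
      rw [← map_mul, ← map_mul, ← map_sub, hd, map_one]
    simp only [form4, phiMat, mulVec, dotProduct, Fin.sum_univ_four]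
    simp [C.bar_bar]
    linear_combination (u 0 * C.bar (v 3) + u 1 * C.bar (v 2)) * hd +
      (u 2 * C.bar (v 1) + u 3 * C.bar (v 0)) * hd'⟩
  map_one' := grp_ext (by
    show phiMat C 1 = 1
    ext i j
    fin_cases i <;> fin_cases j <;> simp [phiMat])
  map_mul' g g' := grp_ext (phiMat_mul C g.1 g'.1)

theorem phiM_val (g : Matrix.SpecialLinearGroup (Fin 2) F) : (phiM C g).1.1 = phiMat C g.1 := rfl

/-- the long Weyl element -/
def wM (δ : F) (hδ : δ ≠ 0) (hδ' : δ + C.bar δ = 0) : ↥(grp C) :=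
  ⟨⟨!![1, 0, 0, 0; 0, 0, -δ⁻¹, 0; 0, δ, 0, 0; 0, 0, 0, 1], by
    rw [det_succ_row_zero, Fin.sum_univ_four]
    simp [det_fin_three, Fin.succAbove]
    field_simp⟩, fun u v => by
    have hb : C.bar δ = -δ := eq_neg_of_add_eq_zero_right hδ'
    simp only [form4, mulVec, dotProduct, Fin.sum_univ_four]
    simp [hb, map_inv₀]
    field_simp
    ring⟩

theorem wM_val (δ : F) (hδ : δ ≠ 0) (hδ' : δ + C.bar δ = 0) :
    (wM C δ hδ hδ').1.1 = !![1, 0, 0, 0; 0, 0, -δ⁻¹, 0; 0, δ, 0, 0; 0, 0, 0, 1] := rfl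

/-- short root elements -/
def xMat (b : F) : Matrix (Fin 4) (Fin 4) F := !![1, b, 0, 0; 0, 1, 0, 0; 0, 0, 1, -C.bar b; 0, 0, 0, 1]

/-- the other short root elements -/
def yMat (δ c : F) : Matrix (Fin 4) (Fin 4) F :=
  !![1, 0, c / δ, 0; 0, 1, 0, C.bar c / δ; 0, 0, 1, 0; 0, 0, 0, 1]

/-- the highest root elements -/
def oneMat (δ v : F) : Matrix (Fin 4) (Fin 4) F :=
  !![1, 0, 0, (v + C.bar v) / δ; 0, 1, 0, 0; 0, 0, 1, 0; 0, 0, 0, 1]

/-- the long root elements -/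
def twoMat (δ v : F) : Matrix (Fin 4) (Fin 4) F :=
  !![1, 0, 0, 0; 0, 1, (v + C.bar v) / δ, 0; 0, 0, 1, 0; 0, 0, 0, 1]

/-- torus elements -/
def torMat (a b : F) : Matrix (Fin 4) (Fin 4) F :=
  !![a * b, 0, 0, 0; 0, C.bar b / a, 0, 0; 0, 0, C.bar a / b, 0; 0, 0, 0, (C.bar a * C.bar b)⁻¹]

theorem phiM_upper (b : F) : (phiM C (CfsgLib.Lie.SL2Rel.Fam.upper b)).1.1 = xMat C b := by
  rw [phiM_val]
  ext i j
  fin_cases i <;> fin_cases j <;> simp [phiMat, xMat, CfsgLib.Lie.SL2Rel.Fam.upper]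

theorem phiM_wm : (phiM C (CfsgLib.Lie.ShortPres.wm 1)).1.1 =
    !![0, 1, 0, 0; -1, 0, 0, 0; 0, 0, 0, -1; 0, 0, 1, 0] := by
  rw [phiM_val, CfsgLib.Lie.ShortPres.val_wm one_ne_zero]
  ext i j
  fin_cases i <;> fin_cases j <;> simp [phiMat]

theorem phiM_hm {a : F} (ha : a ≠ 0) : (phiM C (CfsgLib.Lie.ShortPres.hm a)).1.1 = torMat C a 1 := by
  rw [phiM_val, CfsgLib.Lie.ShortPres.val_hm ha]
  ext i j
  fin_cases i <;> fin_cases j <;> simp [phiMat, torMat]

end CfsgLib.Lie.BoundedPres.SUFour
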