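import Cfsg.Agent.Lib.Lie.BoundedPres.SU4.Model

/-!
# The relations of `SU₄` and the unipotent subgroup

From a map of `SL₂(q²)` and a second Weyl element subject to a few relations: the root groups, their commutators
and the action of the first Weyl element.
-/

set_option autoImplicit false

namespace CfsgLib.Lie.BoundedPres.SUFour

open CfsgLib.SU CfsgLib.Lie.ShortPres
open CfsgLib.Lie.SL2Rel.Fam (upper lower)
open scoped commutatorElement

universe u v

variable {F : Type u} [Field F] {q : ℕ}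

/-- a map of `SL₂(q²)` and an element -/
structure Dat (F : Type u) [Field F] (G : Type v) [Group G] where
  /-- `SL₂` of the short root -/
  Φ : Matrix.SpecialLinearGroup (Fin 2) F →* G
  /-- the long Weyl element -/
  w : G

variable {G : Type v} [Group G] (D : Dat F G)

namespace Dat

/-- short root elements -/
def X (b : F) : G := D.Φ (upper b)

/-- the short Weyl element -/
def T : G := D.Φ (wm 1)

/-- torus elements -/
def H (a : F) : G := D.Φ (hm a)

/-- torus elements, moved -/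
def K (a : F) : G := D.w * D.H a * D.w⁻¹

/-- short root elements, moved -/
def y (c : F) : G := D.w * D.X c * D.w⁻¹

/-- the highest root elements -/
def one (b : F) : G := ⁅D.X b, D.y 1⁆

/-- the long root elements -/
def two (b : F) : G := D.T * D.one b * D.T⁻¹

theorem X_add (b c : F) : D.X (b + c) = D.X b * D.X c := by rw [X, upper_add, map_mul]; rfl

theorem y_add (b c : F) : D.y (b + c) = D.y b * D.y c := by rw [y, X_add, y, y]; group

theorem X_zero : D.X 0 = 1 := by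
  have h := D.X_add 0 0
  rwa [add_zero, left_eq_mul] at h

theorem y_zero : D.y 0 = 1 := by rw [y, X_zero]; group

theorem X_inv (b : F) : (D.X b)⁻¹ = D.X (-b) := by
  rw [inv_eq_iff_mul_eq_one, ← X_add, add_neg_cancel, X_zero]

theorem X_comm (b c : F) : Commute (D.X b) (D.X c) := by
  rw [commute_iff_eq, ← X_add, ← X_add, add_comm]

theorem y_comm (b c : F) : Commute (D.y b) (D.y c) := by
  rw [commute_iff_eq, ← y_add, ← y_add, add_comm]

theorem H_mul {a b : F} (ha : a ≠ 0) (hb : b ≠ 0) : D.H (a * b) = D.H a * D.H b := by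
  rw [H, H, H, ← map_mul, hm_mul ha hb]

theorem K_mul {a b : F} (ha : a ≠ 0) (hb : b ≠ 0) : D.K (a * b) = D.K a * D.K b := by
  rw [K, H_mul D ha hb, K, K]; group

theorem H_one : D.H (1 : F) = 1 := by rw [H, hm_one, map_one]

theorem K_one : D.K (1 : F) = 1 := by rw [K, H_one]; group

theorem H_X {a : F} (ha : a ≠ 0) (b : F) : D.H a * D.X b * (D.H a)⁻¹ = D.X (a ^ 2 * b) := by
  rw [H, X, X, ← map_inv, ← map_mul, ← map_mul, hm_conj ha]

theorem H_pow {a : F} (ha : a ≠ 0) (n : ℕ) : D.H (a ^ n) = D.H a ^ n := by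
  rw [H, H, ← map_pow, hm_pow ha]

theorem K_pow {a : F} (ha : a ≠ 0) (n : ℕ) : D.K (a ^ n) = D.K a ^ n := by
  rw [K, H_pow D ha, K, conj_pow]

theorem T_H {a : F} (ha : a ≠ 0) : D.T * D.H a * D.T⁻¹ = D.H a⁻¹ := by
  have h : hm a * hm a⁻¹ = 1 := by rw [hm_mul ha (inv_ne_zero ha), mul_inv_cancel₀ ha, hm_one]
  rw [T, H, H, ← map_inv, ← map_mul, ← map_mul, wm_hm ha, inv_eq_of_mul_eq_one_right h]

end Dat

/-- the relations -/
structure Rels (C : UCtx F q) (D : Dat F G) (ω δ b₀ : F) : Prop where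
  hω0 : ω ≠ 0
  hω : ∀ s : F, s ≠ 0 → ∃ n : ℕ, ω ^ n = s
  hδ : δ ≠ 0
  hδ' : δ + C.bar δ = 0
  hb₀ : b₀ + C.bar b₀ = 1
  e1 : Commute (D.H ω) (D.K ω)
  e2 : D.K ω * D.X 1 * (D.K ω)⁻¹ = D.X (ω / C.bar ω)
  e4 : D.w * D.K ω * D.w⁻¹ = D.H ω
  e5 : D.T * D.K ω * D.T⁻¹ = D.K (C.bar ω)
  q1 : ∀ b, Commute (D.one b₀) (D.X b)
  q3 : D.w * D.one b₀ * D.w⁻¹ = D.one b₀
  q4 : D.one δ = 1
  q5 : D.K ω * D.one b₀ * (D.K ω)⁻¹ = D.H ω * D.one b₀ * (D.H ω)⁻¹
  q5' : D.H ω * D.one b₀ * (D.H ω)⁻¹ = D.one (ω * C.bar ω * b₀)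
  q8 : D.T * D.y 1 * D.T⁻¹ = D.y (-1)
  braid : D.T * D.w * D.T * D.w = D.w * D.T * D.w * D.T
  htu : D.w⁻¹ = D.two b₀ * (D.w⁻¹ * D.two b₀ * D.w) * D.two b₀
  hbase : (D.H ω)⁻¹ * D.K ω = D.two (ω * C.bar ω * b₀) * (D.w⁻¹ * D.two ((ω * C.bar ω)⁻¹ * b₀) * D.w) *
    D.two (ω * C.bar ω * b₀) * D.w

variable [Finite F]

/-- an additive subgroup containing the squares of a fixed field is everything fixed -/
theorem mem_of_squares {S : AddSubgroup F} (bar : F →+* F) (h : ∀ s : F, bar s = s → s ^ 2 ∈ S) {r : F}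
    (hr : bar r = r) : r ∈ S := by
  by_cases h2 : (2 : F) = 0
  · have hc : ringChar F = 2 := CharP.ringChar_of_prime_eq_zero Nat.prime_two (by exact_mod_cast h2)
    obtain ⟨s, rfl⟩ := FiniteField.isSquare_of_char_two hc r
    have e : (bar s - s) ^ 2 = 0 := by
      rw [map_mul] at hr
      linear_combination hr + (s * s - bar s * s) * h2
    rw [← sq]
    exact h s (sub_eq_zero.1 (pow_eq_zero_iff two_ne_zero |>.1 e))
  have hp : bar ((r + 1) * 2⁻¹) = (r + 1) * 2⁻¹ := by simp [hr, map_ofNat]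
  have hm : bar ((r + -1) * 2⁻¹) = (r + -1) * 2⁻¹ := by simp [hr, map_ofNat]
  have := S.sub_mem (h _ hp) (h _ hm)
  have e : ((r + 1) * 2⁻¹) ^ 2 - ((r + -1) * 2⁻¹) ^ 2 = r := by field_simp; ring
  rwa [e] at this

/-- an additive subgroup containing the squares of the fixed elements contains the fixed elements -/
theorem fixed_mem (C : UCtx F q) (S : AddSubgroup F) (h : ∀ s : F, C.bar s = s → s ^ 2 ∈ S) {r : F}
    (hr : C.bar r = r) : r ∈ S :=
  mem_of_squares (S := S) C.bar.toRingHom (fun s hs => h s (by simpa using hs)) (by simpa using hr)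

/-- the action of the moved torus on the short root elements, from two relations -/
theorem Dat.K_X_of (C : UCtx F q) {D : Dat F G} {ω : F} (hω0 : ω ≠ 0)
    (hω : ∀ s : F, s ≠ 0 → ∃ n : ℕ, ω ^ n = s) (e1 : Commute (D.H ω) (D.K ω))
    (e2 : D.K ω * D.X 1 * (D.K ω)⁻¹ = D.X (ω / C.bar ω)) {a : F} (ha : a ≠ 0) (b : F) :
    D.K a * D.X b * (D.K a)⁻¹ = D.X (a / C.bar a * b) := by
  have hbω : C.bar ω ≠ 0 := (map_ne_zero C.bar).2 hω0
  have hcomm : ∀ s, s ≠ 0 → Commute (D.H s) (D.K ω) := fun s hs => by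
    obtain ⟨n, rfl⟩ := hω s hs
    rw [D.H_pow hω0]
    exact e1.pow_left n
  let S : AddSubgroup F :=
    { carrier := {b | D.K ω * D.X b * (D.K ω)⁻¹ = D.X (ω / C.bar ω * b)}
      zero_mem' := by simp [D.X_zero]
      add_mem' := fun {x y} hx hy => by
        show _ = _
        rw [mul_add, D.X_add, D.X_add, ← hx, ← hy]; group
      neg_mem' := fun {x} hx => by
        show _ = _
        rw [← D.X_inv, mul_neg, ← D.X_inv, ← hx]; group }
  have hsq : ∀ s : F, s ^ 2 ∈ S := fun s => by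
    by_cases hs : s = 0
    · rw [hs, zero_pow two_ne_zero]; exact S.zero_mem
    show _ = _
    rw [← mul_one (s ^ 2), ← D.H_X hs]
    calc D.K ω * (D.H s * D.X 1 * (D.H s)⁻¹) * (D.K ω)⁻¹
        = (D.K ω * D.H s) * D.X 1 * (D.K ω * D.H s)⁻¹ := by group
      _ = (D.H s * D.K ω) * D.X 1 * (D.H s * D.K ω)⁻¹ := by rw [(hcomm s hs).eq]
      _ = D.H s * (D.K ω * D.X 1 * (D.K ω)⁻¹) * (D.H s)⁻¹ := by group
      _ = D.X (s ^ 2 * (ω / C.bar ω)) := by rw [e2, D.H_X hs]
      _ = _ := by congr 1; ring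
  have hall : ∀ b, D.K ω * D.X b * (D.K ω)⁻¹ = D.X (ω / C.bar ω * b) := fun b => by
    exact mem_of_squares (S := S) (RingHom.id F) (fun s _ => hsq s) rfl
  obtain ⟨n, rfl⟩ := hω a ha
  clear ha
  induction n generalizing b with
  | zero => simp [D.K_one]
  | succ n ih =>
    rw [pow_succ, D.K_mul (pow_ne_zero _ hω0) hω0,
      show D.K (ω ^ n) * D.K ω * D.X b * (D.K (ω ^ n) * D.K ω)⁻¹ =
        D.K (ω ^ n) * (D.K ω * D.X b * (D.K ω)⁻¹) * (D.K (ω ^ n))⁻¹ by group, hall, ih]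
    congr 1
    simp only [map_mul]
    field_simp

namespace Rels

variable {C : UCtx F q} {D : Dat F G} {ω δ b₀ : F} (R : Rels C D ω δ b₀)
include R

theorem K_X {a : F} (ha : a ≠ 0) (b : F) : D.K a * D.X b * (D.K a)⁻¹ = D.X (a / C.bar a * b) :=
  Dat.K_X_of C R.hω0 R.hω R.e1 R.e2 ha b

end Rels

end CfsgLib.Lie.BoundedPres.SUFour
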