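import Cfsg.Agent.Lib.Lie.BoundedPres.SU4.Comm

/-!
# The second long root group of `SU₄`
-/

set_option autoImplicit false
set_option maxHeartbeats 400000

namespace CfsgLib.Lie.BoundedPres.SUFour

open Matrix CfsgLib.SU CfsgLib.Lie.ShortPres CfsgLib.Lie.SL2Rel
open CfsgLib.Lie.SL2Rel.Fam (upper lower)
open scoped commutatorElement

universe u v

variable {F : Type u} [Field F] {q : ℕ} {G : Type v} [Group G]

theorem wm_sq : wm (1 : F) * wm 1 = hm (-1) := by
  apply Subtype.ext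
  rw [val_mul', val_wm one_ne_zero, val_hm (neg_ne_zero.2 one_ne_zero)]
  ext i j
  fin_cases i <;> fin_cases j <;> simp [Matrix.mul_apply, Fin.sum_univ_two]

theorem upper_wm_upper {p : F} (hp : p ≠ 0) :
    upper p * (hm (-p) * wm 1) * upper p = lower (p⁻¹) := by
  apply Subtype.ext
  rw [val_mul', val_mul', val_mul', val_hm (neg_ne_zero.2 hp), val_wm one_ne_zero]
  ext i j
  fin_cases i <;> fin_cases j <;>
    simp [Matrix.mul_apply, Fin.sum_univ_two, upper, lower] <;> field_simp <;> ring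

theorem Dat.T_X (D : Dat F G) (b : F) : D.T * D.X b * D.T⁻¹ = D.Φ (lower (-b)) := by
  rw [Dat.T, Dat.X, ← map_inv, ← map_mul, ← map_mul, wm_upper]

theorem Dat.T_sq (D : Dat F G) : D.T * D.T = D.H (-1) := by rw [Dat.T, Dat.H, ← map_mul, wm_sq]

namespace Rels

variable [Finite F] {C : UCtx F q} {D : Dat F G} {ω δ b₀ : F} (R : Rels C D ω δ b₀)
include R

theorem T_two (b : F) : D.T * D.two b * D.T⁻¹ = D.one b := by
  rw [Dat.two, show D.T * (D.T * D.one b * D.T⁻¹) * D.T⁻¹ = (D.T * D.T) * D.one b * (D.T * D.T)⁻¹ by group,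
    D.T_sq, (R.torus_one (neg_ne_zero.2 one_ne_zero) b).1]
  simp

theorem two_add (b b' : F) : D.two (b + b') = D.two b * D.two b' := by
  rw [Dat.two, Dat.two, Dat.two, R.one_add]; group

theorem two_congr {b b' : F} (h : b + C.bar b = b' + C.bar b') : D.two b = D.two b' := by
  rw [Dat.two, Dat.two, R.one_congr h]

theorem two_bar (b : F) : D.two (C.bar b) = D.two b := by rw [Dat.two, Dat.two, R.one_bar]

theorem two_comm_two (b b' : F) : Commute (D.two b) (D.two b') :=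
  (Commute.conj_iff _).2 (R.one_comm_one b b')

theorem two_comm_y (b c : F) : Commute (D.two b) (D.y c) := by
  have e : D.y c = D.T * D.y (-C.bar c) * D.T⁻¹ := by rw [R.T_y, map_neg, C.bar_bar, neg_neg]
  rw [e]
  exact (Commute.conj_iff _).2 (R.cen_one b _).2

theorem torus_two {a : F} (ha : a ≠ 0) (b : F) :
    D.H a * D.two b * (D.H a)⁻¹ = D.two ((a * C.bar a)⁻¹ * b) ∧
      D.K a * D.two b * (D.K a)⁻¹ = D.two (a * C.bar a * b) := by
  have hba : C.bar a ≠ 0 := (map_ne_zero C.bar).2 ha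
  constructor
  · have e : D.H a = D.T * D.H a⁻¹ * D.T⁻¹ := by rw [D.T_H (inv_ne_zero ha), inv_inv]
    rw [Dat.two, Dat.two, show (a * C.bar a)⁻¹ * b = a⁻¹ * C.bar a⁻¹ * b by rw [map_inv₀, mul_inv],
      ← (R.torus_one (inv_ne_zero ha) b).1, e]
    group
  · have e : D.K a = D.T * D.K (C.bar a) * D.T⁻¹ := by rw [R.T_K hba, C.bar_bar]
    rw [Dat.two, Dat.two, show a * C.bar a * b = C.bar a * C.bar (C.bar a) * b by rw [C.bar_bar, mul_comm a],
      ← (R.torus_one hba b).2, e]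
    group

/-- the action of the short root group on the long one -/
theorem X_two (p u : F) :
    D.X p * D.two u * (D.X p)⁻¹ = D.two u * D.y ((u + C.bar u) * p) * D.one (p * C.bar p * u) := by
  by_cases hp : p = 0
  · subst hp; simp [D.X_zero, D.y_zero, Dat.one]
  have hbp : C.bar p ≠ 0 := (map_ne_zero C.bar).2 hp
  set c := C.bar u * p with hc
  set c' := -(p / C.bar p) * C.bar c with hc'
  have e1 : D.Φ (lower p⁻¹) * D.y c * (D.Φ (lower p⁻¹))⁻¹ = D.two (p⁻¹ * c) * D.y c := by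
    have hy : D.y c = D.T * D.y (-C.bar c) * D.T⁻¹ := by rw [R.T_y, map_neg, C.bar_bar, neg_neg]
    have hx : D.Φ (lower p⁻¹) = D.T * D.X (-p⁻¹) * D.T⁻¹ := by rw [D.T_X, neg_neg]
    have hcm : D.X (-p⁻¹) * D.y (-C.bar c) * (D.X (-p⁻¹))⁻¹ = D.one (p⁻¹ * c) * D.y (-C.bar c) := by
      rw [show p⁻¹ * c = -p⁻¹ * C.bar (-C.bar c) by rw [map_neg, C.bar_bar]; ring, ← R.comm_eq,
        commutatorElement_def]
      group
    rw [hx]
    conv_lhs => rw [hy]
    calc D.T * D.X (-p⁻¹) * D.T⁻¹ * (D.T * D.y (-C.bar c) * D.T⁻¹) * (D.T * D.X (-p⁻¹) * D.T⁻¹)⁻¹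
        = D.T * (D.X (-p⁻¹) * D.y (-C.bar c) * (D.X (-p⁻¹))⁻¹) * D.T⁻¹ := by group
      _ = (D.T * D.one (p⁻¹ * c) * D.T⁻¹) * (D.T * D.y (-C.bar c) * D.T⁻¹) := by rw [hcm]; group
      _ = _ := by rw [← hy]; rfl
  have hXy : ∀ z, D.X p * D.y z * (D.X p)⁻¹ = D.one (p * C.bar z) * D.y z := fun z => by
    rw [← R.comm_eq, commutatorElement_def]; group
  have hn : D.H (-p) * D.T * (D.one (p * C.bar c) * D.y c) * (D.H (-p) * D.T)⁻¹ = D.two u * D.y c' := by
    calc D.H (-p) * D.T * (D.one (p * C.bar c) * D.y c) * (D.H (-p) * D.T)⁻¹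
        = (D.H (-p) * D.two (p * C.bar c) * (D.H (-p))⁻¹) *
          (D.H (-p) * (D.T * D.y c * D.T⁻¹) * (D.H (-p))⁻¹) := by rw [Dat.two]; group
      _ = _ := by
        rw [(R.torus_two (neg_ne_zero.2 hp) _).1, R.T_y, R.H_y (neg_ne_zero.2 hp), hc', hc, map_neg, map_mul,
          C.bar_bar]
        congr 2 <;> field_simp
  have e2 : D.Φ (lower p⁻¹) * D.y c * (D.Φ (lower p⁻¹))⁻¹ =
      D.X p * D.two u * (D.X p)⁻¹ * (D.one (p * C.bar c') * D.y c') := by
    rw [← upper_wm_upper hp, map_mul, map_mul, map_mul]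
    show D.X p * (D.H (-p) * D.T) * D.X p * D.y c * (D.X p * (D.H (-p) * D.T) * D.X p)⁻¹ = _
    calc D.X p * (D.H (-p) * D.T) * D.X p * D.y c * (D.X p * (D.H (-p) * D.T) * D.X p)⁻¹
        = D.X p * (D.H (-p) * D.T * (D.X p * D.y c * (D.X p)⁻¹) * (D.H (-p) * D.T)⁻¹) * (D.X p)⁻¹ := by group
      _ = (D.X p * D.two u * (D.X p)⁻¹) * (D.X p * D.y c' * (D.X p)⁻¹) := by rw [hXy, hn]; group
      _ = _ := by rw [hXy c']
  rw [e1] at e2
  rw [eq_mul_inv_of_mul_eq e2.symm]
  have ec : D.two (p⁻¹ * c) = D.two u := by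
    rw [hc, show p⁻¹ * (C.bar u * p) = C.bar u by field_simp, R.two_bar]
  have ey : D.y c * (D.y c')⁻¹ = D.y ((u + C.bar u) * p) := by
    rw [mul_inv_eq_iff_eq_mul, ← D.y_add]
    congr 1
    rw [hc', hc, map_mul, C.bar_bar]
    field_simp
    ring
  have eo : (D.one (p * C.bar c'))⁻¹ = D.one (p * C.bar p * u) := by
    rw [eq_comm]
    refine eq_inv_of_mul_eq_one_left ?_
    rw [← R.one_add, hc', hc]
    simp only [map_mul, map_neg, map_div₀, C.bar_bar]
    rw [R.one_congr (b' := 0)]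
    · simp [Dat.one, D.X_zero]
    · simp only [map_add, map_mul, map_neg, map_div₀, C.bar_bar, map_zero]
      field_simp
      ring
  rw [ec, _root_.mul_inv_rev, ← mul_assoc, mul_assoc (D.two u), ey, eo]

theorem one_comm_two (b b' : F) : Commute (D.one b) (D.two b') := by
  have h := (Commute.conj_iff (D.X 1)).2 (R.two_comm_y b' (C.bar b))
  rw [R.X_two 1 b', show D.X (1 : F) * D.y (C.bar b) * (D.X 1)⁻¹ = D.one b * D.y (C.bar b) by
    conv_rhs => rw [show b = 1 * C.bar (C.bar b) by rw [one_mul, C.bar_bar], ← R.comm_eq]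
    rw [C.bar_bar, one_mul, commutatorElement_def]
    group] at h
  have hy : ∀ z, Commute (D.y z) (D.one b * D.y (C.bar b)) := fun z =>
    ((R.cen_one b z).2.symm).mul_right (D.y_comm _ _)
  have ho : ∀ z, Commute (D.one z) (D.one b * D.y (C.bar b)) := fun z =>
    (R.one_comm_one _ _).mul_right (R.cen_one z _).2
  have h' : Commute (D.two b') (D.one b * D.y (C.bar b)) := by
    have := (h.mul_left (ho ((1 : F) * C.bar 1 * b')).inv_left).mul_left (hy ((b' + C.bar b') * 1)).inv_left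
    simpa [mul_assoc] using this
  have := h'.mul_right (R.two_comm_y b' (C.bar b)).inv_right
  rw [mul_inv_cancel_right] at this
  exact this.symm

end Rels

end CfsgLib.Lie.BoundedPres.SUFour
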