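import Cfsg.Agent.Lib.Lie.BoundedPres.SU4.Two
import Cfsg.Agent.Lib.Lie.ShortPres.Fam
import Cfsg.Agent.Lib.Descent.FixedField

/-!
# The long `SL₂`, the torus and the unipotent group of `SU₄`
-/

set_option autoImplicit false
set_option maxHeartbeats 400000

namespace CfsgLib.Lie.BoundedPres.SUFour

open Matrix CfsgLib.SU CfsgLib.Lie.ShortPres CfsgLib.Lie.SL2Rel
open CfsgLib.Lie.SL2Rel.Fam (upper lower)

universe u v

variable {F : Type u} [Field F] {q : ℕ} {G : Type v} [Group G]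

/-- the torus -/
def Dat.Tor (D : Dat F G) : Subgroup G :=
  Subgroup.closure {g | ∃ a : F, a ≠ 0 ∧ (g = D.H a ∨ g = D.K a)}

/-- the unipotent group -/
def Dat.U (D : Dat F G) : Subgroup G :=
  Subgroup.closure {g | ∃ b : F, g = D.X b ∨ g = D.y b ∨ g = D.one b ∨ g = D.two b}

theorem Dat.X_U (D : Dat F G) (b : F) : D.X b ∈ D.U := Subgroup.subset_closure ⟨b, Or.inl rfl⟩

theorem Dat.y_U (D : Dat F G) (b : F) : D.y b ∈ D.U := Subgroup.subset_closure ⟨b, Or.inr (Or.inl rfl)⟩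

theorem Dat.one_U (D : Dat F G) (b : F) : D.one b ∈ D.U :=
  Subgroup.subset_closure ⟨b, Or.inr (Or.inr (Or.inl rfl))⟩

theorem Dat.two_U (D : Dat F G) (b : F) : D.two b ∈ D.U :=
  Subgroup.subset_closure ⟨b, Or.inr (Or.inr (Or.inr rfl))⟩

theorem Dat.H_Tor (D : Dat F G) {a : F} (ha : a ≠ 0) : D.H a ∈ D.Tor :=
  Subgroup.subset_closure ⟨a, ha, Or.inl rfl⟩

theorem Dat.K_Tor (D : Dat F G) {a : F} (ha : a ≠ 0) : D.K a ∈ D.Tor :=
  Subgroup.subset_closure ⟨a, ha, Or.inr rfl⟩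

namespace Rels

variable [Finite F] {C : UCtx F q} {D : Dat F G} {ω δ b₀ : F} (R : Rels C D ω δ b₀)
include R

theorem tor_form {g : G} (hg : g ∈ D.Tor) : ∃ a b : F, a ≠ 0 ∧ b ≠ 0 ∧ g = D.H a * D.K b := by
  induction hg using Subgroup.closure_induction with
  | mem x hx =>
    obtain ⟨a, ha, rfl | rfl⟩ := hx
    · exact ⟨a, 1, ha, one_ne_zero, by rw [D.K_one, mul_one]⟩
    · exact ⟨1, a, one_ne_zero, ha, by rw [D.H_one, one_mul]⟩
  | one => exact ⟨1, 1, one_ne_zero, one_ne_zero, by rw [D.H_one, D.K_one, mul_one]⟩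
  | mul x y _ _ hx hy =>
    obtain ⟨a, b, ha, hb, rfl⟩ := hx
    obtain ⟨a', b', ha', hb', rfl⟩ := hy
    refine ⟨a * a', b * b', mul_ne_zero ha ha', mul_ne_zero hb hb', ?_⟩
    rw [D.H_mul ha ha', D.K_mul hb hb', mul_assoc, ← mul_assoc (D.K b), ← (R.commute_HK ha' hb).eq]
    group
  | inv x _ hx =>
    obtain ⟨a, b, ha, hb, rfl⟩ := hx
    refine ⟨a⁻¹, b⁻¹, inv_ne_zero ha, inv_ne_zero hb, ?_⟩
    rw [(R.commute_HK ha hb).eq, _root_.mul_inv_rev]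
    congr 1 <;> refine inv_eq_of_mul_eq_one_right ?_
    · rw [← D.H_mul ha (inv_ne_zero ha), mul_inv_cancel₀ ha, D.H_one]
    · rw [← D.K_mul hb (inv_ne_zero hb), mul_inv_cancel₀ hb, D.K_one]

theorem tor_act {τ : G} (hτ : τ ∈ D.Tor) :
    ∃ l m k k' : F, C.bar k = k ∧ C.bar k' = k' ∧ ∀ b, τ * D.X b * τ⁻¹ = D.X (l * b) ∧
      τ * D.y b * τ⁻¹ = D.y (m * b) ∧ τ * D.one b * τ⁻¹ = D.one (k * b) ∧
      τ * D.two b * τ⁻¹ = D.two (k' * b) := by
  obtain ⟨a, c, ha, hc, rfl⟩ := R.tor_form hτ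
  refine ⟨a ^ 2 * (c / C.bar c), a / C.bar a * c ^ 2, a * C.bar a * (c * C.bar c),
    (a * C.bar a)⁻¹ * (c * C.bar c), by simp [C.bar_bar, mul_comm], by simp [C.bar_bar, mul_comm], fun b => ?_⟩
  have e : ∀ g, D.H a * D.K c * g * (D.H a * D.K c)⁻¹ = D.H a * (D.K c * g * (D.K c)⁻¹) * (D.H a)⁻¹ := fun g => by
    group
  refine ⟨?_, ?_, ?_, ?_⟩
  · rw [e, R.K_X hc, D.H_X ha, mul_assoc (a ^ 2)]
  · rw [e, K_y' hc, R.H_y ha, mul_assoc (a / C.bar a)]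
  · rw [e, (R.torus_one hc _).2, (R.torus_one ha _).1, mul_assoc (a * C.bar a)]
  · rw [e, (R.torus_two hc _).2, (R.torus_two ha _).1, mul_assoc (a * C.bar a)⁻¹]

theorem tor_U {τ g : G} (hτ : τ ∈ D.Tor) (hg : g ∈ D.U) : τ * g * τ⁻¹ ∈ D.U := by
  obtain ⟨l, m, k, k', -, -, h⟩ := R.tor_act hτ
  induction hg using Subgroup.closure_induction with
  | mem x hx =>
    obtain ⟨b, rfl | rfl | rfl | rfl⟩ := hx
    · rw [(h b).1]; exact D.X_U _
    · rw [(h b).2.1]; exact D.y_U _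
    · rw [(h b).2.2.1]; exact D.one_U _
    · rw [(h b).2.2.2]; exact D.two_U _
  | one => simp
  | mul x y _ _ hx hy =>
    rw [show τ * (x * y) * τ⁻¹ = (τ * x * τ⁻¹) * (τ * y * τ⁻¹) by group]
    exact mul_mem hx hy
  | inv x _ hx =>
    rw [show τ * x⁻¹ * τ⁻¹ = (τ * x * τ⁻¹)⁻¹ by group]
    exact inv_mem hx

/-- the long `SL₂` -/
theorem exists_psi : ∃ ψ : Matrix.SpecialLinearGroup (Fin 2) ↥(CfsgLib.Descent.fixedField C.bar) →* G,
    (∀ r, ψ (upper r) = D.two ((r : F) * b₀)) ∧ ψ (wm 1) = D.w⁻¹ ∧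
      (∀ r : ↥(CfsgLib.Descent.fixedField C.bar), r ≠ 0 → ψ (hm r) ∈ D.Tor) ∧
      ψ (hm ⟨ω * C.bar ω, C.norm_fixed ω⟩) = (D.H ω)⁻¹ * D.K ω := by
  classical
  let K := CfsgLib.Descent.fixedField C.bar
  let s : ↥K := ⟨ω * C.bar ω, C.norm_fixed ω⟩
  have hbω : C.bar ω ≠ 0 := (map_ne_zero C.bar).2 R.hω0
  have hs0 : s ≠ 0 := fun h => mul_ne_zero R.hω0 hbω (congrArg Subtype.val h)
  have hgen : ∀ r : ↥K, r ≠ 0 → ∃ n : ℕ, s ^ n = r := by
    intro r hr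
    obtain ⟨a, ha⟩ := C.exists_norm (c := (r : F)) r.2
    have ha0 : a ≠ 0 := fun h => hr (Subtype.ext (by rw [← ha, h, zero_mul]; rfl))
    obtain ⟨n, rfl⟩ := R.hω a ha0
    exact ⟨n, Subtype.ext (by
      show (ω * C.bar ω) ^ n = (r : F)
      rw [← ha, map_pow, mul_pow])⟩
  let h := (D.H ω)⁻¹ * D.K ω
  obtain ⟨ψ, -, hψw, hψh, hψx⟩ := exists_hom (K := ↥K) (H := G) (D.two b₀) D.w⁻¹ h s hs0 hgen
    (fun r => D.two ((r : F) * b₀)) (fun b c => by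
      show D.two (((b : F) + (c : F)) * b₀) = _
      rw [add_mul, R.two_add])
    (by show D.two (((1 : ↥K) : F) * b₀) = _; simp)
    (fun r => by
      show D.two ((ω * C.bar ω) ^ 2 * (r : F) * b₀) = (D.H ω)⁻¹ * D.K ω * D.two _ * ((D.H ω)⁻¹ * D.K ω)⁻¹
      calc D.two ((ω * C.bar ω) ^ 2 * (r : F) * b₀)
          = (D.H ω)⁻¹ * (D.H ω * D.two ((ω * C.bar ω) ^ 2 * (r : F) * b₀) * (D.H ω)⁻¹) * D.H ω := by group
        _ = (D.H ω)⁻¹ * D.two (ω * C.bar ω * ((r : F) * b₀)) * D.H ω := by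
            rw [(R.torus_two R.hω0 _).1]
            congr 3
            field_simp
        _ = _ := by rw [← (R.torus_two R.hω0 _).2]; group)
    (by
      show D.w⁻¹ * ((D.H ω)⁻¹ * D.K ω) * D.w⁻¹⁻¹ = ((D.H ω)⁻¹ * D.K ω)⁻¹
      have h1 : D.w⁻¹ * D.H ω * D.w = D.K ω := by rw [← R.w_K R.hω0]; group
      have h2 : D.w⁻¹ * D.K ω * D.w = D.H ω := by rw [Dat.K]; group
      calc D.w⁻¹ * ((D.H ω)⁻¹ * D.K ω) * D.w⁻¹⁻¹
          = (D.w⁻¹ * D.H ω * D.w)⁻¹ * (D.w⁻¹ * D.K ω * D.w) := by group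
        _ = _ := by rw [h1, h2, _root_.mul_inv_rev, inv_inv])
    (by rw [inv_inv]; exact R.htu)
    (Or.inl (by
      show (D.H ω)⁻¹ * D.K ω = D.two (ω * C.bar ω * b₀) * (D.w⁻¹ * D.two (((s⁻¹ : ↥K) : F) * b₀) * D.w⁻¹⁻¹) *
        D.two (ω * C.bar ω * b₀) * D.w⁻¹⁻¹
      rw [inv_inv]
      exact R.hbase))
  refine ⟨ψ, hψx, hψw, fun r hr => ?_, hψh⟩
  obtain ⟨n, rfl⟩ := hgen r hr
  rw [← hm_pow hs0, map_pow, hψh]
  exact Subgroup.pow_mem _ (mul_mem (inv_mem (D.H_Tor R.hω0)) (D.K_Tor R.hω0)) n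

theorem w_sq : D.w * D.w ∈ D.Tor := by
  obtain ⟨ψ, -, hw, ht, -⟩ := R.exists_psi
  have := ht (-1) (neg_ne_zero.2 one_ne_zero)
  rw [← wm_sq, map_mul, hw, ← _root_.mul_inv_rev] at this
  exact inv_mem_iff.1 this

theorem w_T : ∀ {τ : G}, τ ∈ D.Tor → D.w * τ * D.w⁻¹ ∈ D.Tor ∧ D.T * τ * D.T⁻¹ ∈ D.Tor := by
  intro τ hτ
  obtain ⟨a, b, ha, hb, rfl⟩ := R.tor_form hτ
  constructor
  · rw [show D.w * (D.H a * D.K b) * D.w⁻¹ = (D.w * D.H a * D.w⁻¹) * (D.w * D.K b * D.w⁻¹) by group, R.w_K hb]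
    exact mul_mem (D.K_Tor ha) (D.H_Tor hb)
  · rw [show D.T * (D.H a * D.K b) * D.T⁻¹ = (D.T * D.H a * D.T⁻¹) * (D.T * D.K b * D.T⁻¹) by group, D.T_H ha,
      R.T_K hb]
    exact mul_mem (D.H_Tor (inv_ne_zero ha)) (D.K_Tor ((map_ne_zero C.bar).2 hb))

theorem w_inv_X (b : F) : (∃ c, D.w⁻¹ * D.X b * D.w = D.y c) ∧ ∃ c, D.w * D.y b * D.w⁻¹ = D.X c := by
  obtain ⟨l, _, _, _, -, -, h⟩ := R.tor_act R.w_sq
  obtain ⟨l', _, _, _, -, -, h'⟩ := R.tor_act (inv_mem R.w_sq)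
  refine ⟨⟨l' * b, ?_⟩, l * b, ?_⟩
  · rw [Dat.y, ← (h' b).1]; group
  · rw [← (h b).1, Dat.y]; group

theorem U_form {g : G} (hg : g ∈ D.U) :
    ∃ v c r b : F, g = D.two v * D.y c * D.one r * D.X b := by
  let A : Subgroup G :=
    { carrier := {g | ∃ v c r : F, g = D.two v * D.y c * D.one r}
      one_mem' := ⟨0, 0, 0, by simp [Dat.two, Dat.one, D.X_zero, D.y_zero]⟩
      mul_mem' := by
        rintro _ _ ⟨v, c, r, rfl⟩ ⟨v', c', r', rfl⟩
        refine ⟨v + v', c + c', r + r', ?_⟩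
        rw [R.two_add, D.y_add, R.one_add]
        have h1 : Commute (D.y c * D.one r) (D.two v') :=
          ((R.two_comm_y v' c).symm).mul_left (R.one_comm_two r v')
        have h2 : Commute (D.one r) (D.y c') := (R.cen_one r c').2
        calc D.two v * D.y c * D.one r * (D.two v' * D.y c' * D.one r')
            = D.two v * ((D.y c * D.one r) * D.two v') * D.y c' * D.one r' := by group
          _ = D.two v * (D.two v' * D.y c) * (D.one r * D.y c') * D.one r' := by rw [h1.eq]; group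
          _ = _ := by rw [h2.eq]; group
      inv_mem' := by
        rintro _ ⟨v, c, r, rfl⟩
        refine ⟨-v, -c, -r, inv_eq_of_mul_eq_one_right ?_⟩
        have h1 : Commute (D.y c * D.one r) (D.two (-v)) :=
          ((R.two_comm_y (-v) c).symm).mul_left (R.one_comm_two r (-v))
        have h2 : Commute (D.one r) (D.y (-c)) := (R.cen_one r (-c)).2
        calc D.two v * D.y c * D.one r * (D.two (-v) * D.y (-c) * D.one (-r))
            = D.two v * ((D.y c * D.one r) * D.two (-v)) * D.y (-c) * D.one (-r) := by group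
          _ = D.two v * (D.two (-v) * D.y c) * (D.one r * D.y (-c)) * D.one (-r) := by rw [h1.eq]; group
          _ = (D.two v * D.two (-v)) * (D.y c * D.y (-c)) * (D.one r * D.one (-r)) := by rw [h2.eq]; group
          _ = 1 := by
            rw [← R.two_add, ← D.y_add, ← R.one_add, add_neg_cancel, add_neg_cancel, add_neg_cancel]
            simp [Dat.two, Dat.one, D.X_zero, D.y_zero] }
  have hy : ∀ c, D.y c ∈ A := fun c => ⟨0, c, 0, by simp [Dat.two, Dat.one, D.X_zero]⟩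
  have ho : ∀ r, D.one r ∈ A := fun r => ⟨0, 0, r, by simp [Dat.two, Dat.one, D.X_zero, D.y_zero]⟩
  have ht : ∀ v, D.two v ∈ A := fun v => ⟨v, 0, 0, by simp [Dat.one, D.X_zero, D.y_zero]⟩
  have hn : ∀ b, ∀ a ∈ A, D.X b * a * (D.X b)⁻¹ ∈ A := by
    rintro b _ ⟨v, c, r, rfl⟩
    rw [show D.X b * (D.two v * D.y c * D.one r) * (D.X b)⁻¹ =
      (D.X b * D.two v * (D.X b)⁻¹) * (D.X b * D.y c * (D.X b)⁻¹) * (D.X b * D.one r * (D.X b)⁻¹) by group,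
      R.X_two, (R.cen_one r b).1.symm.mul_inv_cancel,
      show D.X b * D.y c * (D.X b)⁻¹ = D.one (b * C.bar c) * D.y c by
        rw [← R.comm_eq, commutatorElement_def]; group]
    exact mul_mem (mul_mem (mul_mem (mul_mem (ht _) (hy _)) (ho _)) (mul_mem (ho _) (hy _))) (ho _)
  have key : ∃ a ∈ A, ∃ b, g = a * D.X b := by
    induction hg using Subgroup.closure_induction with
    | mem x hx =>
      obtain ⟨b, rfl | rfl | rfl | rfl⟩ := hx
      · exact ⟨1, one_mem _, b, (one_mul _).symm⟩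
      · exact ⟨_, hy b, 0, by rw [D.X_zero, mul_one]⟩
      · exact ⟨_, ho b, 0, by rw [D.X_zero, mul_one]⟩
      · exact ⟨_, ht b, 0, by rw [D.X_zero, mul_one]⟩
    | one => exact ⟨1, one_mem _, 0, by rw [D.X_zero, mul_one]⟩
    | mul x y _ _ hx hy' =>
      obtain ⟨a, ha, b, rfl⟩ := hx
      obtain ⟨a', ha', b', rfl⟩ := hy'
      exact ⟨_, mul_mem ha (hn b a' ha'), b + b', by rw [D.X_add]; group⟩
    | inv x _ hx =>
      obtain ⟨a, ha, b, rfl⟩ := hx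
      refine ⟨_, hn (-b) _ (inv_mem ha), -b, ?_⟩
      rw [← D.X_inv]; group
  obtain ⟨a, ⟨v, c, r, rfl⟩, b, rfl⟩ := key
  exact ⟨v, c, r, b, rfl⟩

end Rels

end CfsgLib.Lie.BoundedPres.SUFour
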